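import Groth.Agent.L07.PtAuto.Supp
import Groth.Agent.L04.MatlisEnd
import Groth.Agent.L15.Ref.Stalk
import Groth.Agent.L21.Bundle.Lines
import Groth.Agent.L20.FibreFree
import Groth.Agent.L17.PullBasis
import Groth.Agent.L17.FinLocBases

/-! The image of the structure sheaf is a line bundle. -/

set_option autoImplicit false
set_option linter.style.haveILetI false
set_option backward.defeqAttrib.useBackward true
set_option backward.isDefEq.respectTransparency false
set_option backward.isDefEq.respectTransparency.types false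

universe u
open CategoryTheory CategoryTheory.Limits AlgebraicGeometry TopologicalSpace Opposite
open IsLocalRing

noncomputable section

namespace Groth.L07.PtAuto

open Groth.L07.BvdB.PointSky Groth.L00.Sky

/-- The local algebra: a module which looks like the ring through finite quotients is the ring. -/
theorem nonempty_equiv_of_quotients {R M : Type u} [CommRing R] [IsLocalRing R] [IsNoetherianRing R]
    [AddCommGroup M] [Module R M] [Module.Finite R M] (φ₀ : M →ₗ[R] ResidueField R)
    (h₀ : Function.Surjective φ₀) (huniq : ∀ φ : M →ₗ[R] ResidueField R, LinearMap.ker φ₀ ≤ LinearMap.ker φ)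
    (hsurj : ∀ n : ℕ, ∃ φ : M →ₗ[R] R ⧸ maximalIdeal R ^ n, Function.Surjective φ) :
    Nonempty (M ≃ₗ[R] R) := by
  obtain ⟨v, hv⟩ := h₀ 1
  have hgen : Submodule.span R {v} = ⊤ := by
    rcases IsCoatomic.eq_top_or_exists_le_coatom (Submodule.span R {v}) with h | ⟨K, hK, hvK⟩
    · exact h
    exfalso
    haveI : IsSimpleModule R (M ⧸ K) := isSimpleModule_iff_isCoatom.2 hK
    obtain ⟨J, hJ, ⟨eJ⟩⟩ := isSimpleModule_iff_quot_maximal.1 (‹IsSimpleModule R (M ⧸ K)›)
    obtain rfl : J = maximalIdeal R := IsLocalRing.eq_maximalIdeal hJ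
    let φ : M →ₗ[R] ResidueField R := eJ.toLinearMap.comp K.mkQ
    have hk : LinearMap.ker φ = K := Submodule.ext fun m => LinearMap.mem_ker.trans
      ((LinearEquiv.map_eq_zero_iff eJ).trans (Submodule.Quotient.mk_eq_zero K))
    have hle : LinearMap.ker φ₀ ≤ K := (huniq φ).trans hk.le
    refine hK.1 (eq_top_iff.2 fun m _ => ?_)
    obtain ⟨r, hr⟩ := Ideal.Quotient.mk_surjective (φ₀ m)
    have h1 : m - r • v ∈ LinearMap.ker φ₀ := by
      rw [LinearMap.mem_ker, map_sub, map_smul, hv, ← hr, sub_eq_zero, Algebra.smul_def, mul_one]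
      rfl
    simpa using K.add_mem (hle h1) (K.smul_mem r (hvK (Submodule.mem_span_singleton_self v)))
  let l : R →ₗ[R] M := LinearMap.toSpanSingleton R M v
  have hl : Function.Surjective l := by
    rw [← LinearMap.range_eq_top, ← LinearMap.span_singleton_eq_range, hgen]
  refine ⟨(LinearEquiv.ofBijective l ⟨(injective_iff_map_eq_zero l).2 fun r hr => ?_, hl⟩).symm⟩
  refine (Submodule.mem_bot R).1 ?_
  rw [← Ideal.iInf_pow_eq_bot_of_isLocalRing (maximalIdeal R) (Ideal.IsPrime.ne_top inferInstance),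
    Ideal.mem_iInf]
  intro n
  obtain ⟨φ, hφ⟩ := hsurj n
  obtain ⟨m, hm⟩ := hφ 1
  obtain ⟨c, rfl⟩ := hl m
  have h1 : r • (1 : R ⧸ maximalIdeal R ^ n) = 0 := by
    rw [← hm, ← map_smul, ← map_smul l, smul_eq_mul, mul_comm, ← smul_eq_mul, map_smul l, hr,
      smul_zero, map_zero]
  rw [← Ideal.Quotient.eq_zero_iff_mem]
  rw [Algebra.smul_def, mul_one] at h1
  exact h1

variable {X : Scheme.{u}}

/-- The structure sheaf as a coherent module. -/
abbrev OC (X : Scheme.{u}) [IsLocallyNoetherian X] : CC X :=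
  ⟨Coh.structureModule X, Groth.L16.Rees.RelVanish.isCoh_structureModule X⟩

/-- A finitely generated module with invertible closed stalks is invertible. -/
theorem isInvertible_of_closed_stalks [IsLocallyNoetherian X] [CompactSpace X] {F : X.Modules}
    (hF : Coh.IsCoh F) (hst : ∀ y : X, IsClosed ({y} : Set X) →
      Nonempty (F.presheaf.stalk y ≃ₗ[X.presheaf.stalk y] X.presheaf.stalk y)) :
    PicF.IsInvertible F := by
  refine Groth.L21.Bundle.isInvertible_of_rank fun z => ?_
  obtain ⟨y, hzy, hy⟩ := IsClosed.exists_closed_singleton (S := closure ({z} : Set X)) isClosed_closure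
    (Set.singleton_nonempty z).closure
  obtain ⟨θy⟩ := hst y hy
  haveI : Module.Flat (X.presheaf.stalk y) (F.presheaf.stalk y) := Module.Flat.of_linearEquiv θy
  obtain ⟨U, n, hyU, ⟨e⟩⟩ := Groth.L20.FibreFree.exists_free_nhd F (Groth.L15.Ref.isFP_of_isCoh hF) y inferInstance
  have hU : U.ι ''ᵁ ⊤ = U := (Scheme.Hom.image_top_eq_opensRange U.ι).trans U.opensRange_ι
  obtain ⟨s, hs⟩ := Groth.L17.FinLocBases.exists_isBasis F e
  have hb := Groth.L17.PullBasis.bijective_stalk F s hs y (hU.symm ▸ hyU)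
  let θn := LinearEquiv.ofBijective (Fintype.linearCombination (X.presheaf.stalk y)
    fun j => Groth.L00.StalkTensor.germ (Groth.L00.Tensor.pre F) y (hU.symm ▸ hyU) (s j)) hb
  haveI : Nontrivial (X.presheaf.stalk y) := inferInstance
  have hn : n = 1 := by simpa using (θn.trans θy).finrank_eq
  obtain ⟨w, hw, hw'⟩ := mem_closure_iff.1 hzy U U.isOpen hyU
  exact ⟨U, (Set.mem_singleton_iff.1 hw') ▸ hw, ⟨hn ▸ e⟩⟩

variable [IsLocallyNoetherian X] [CompactSpace X] {Φ : CC X ⥤ CC X} [Φ.Full] [Φ.Faithful]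

omit [CompactSpace X] [Φ.Full] [Φ.Faithful] in
theorem epi_map (hΦ : SuppExact Φ) {M N : CC X} (g : M ⟶ N) [Epi g.hom] : Epi (Φ.map g).hom := by
  let K : CC X := ⟨kernel g.hom, (Groth.L16.CohKernel.isCoh_kernel_cokernel M.property N.property g.hom).1⟩
  obtain ⟨w', h⟩ := hΦ.exact (ObjectProperty.homMk (kernel.ι g.hom) : K ⟶ M) g (kernel.condition _)
    { exact := ShortComplex.exact_of_f_is_kernel _ (kernelIsKernel _)
      mono_f := inferInstanceAs (Mono (kernel.ι g.hom)), epi_g := ‹_› }
  exact h.epi_g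

/-- The fixed skyscrapers. -/
def FixPts (Φ : CC X ⥤ CC X) : Prop :=
  ∀ (x : X) (_ : IsClosed ({x} : Set X)) (M : CC X), CohB1.support M.obj ⊆ {x} →
    Nonempty ((Φ.obj M).obj ≅ M.obj)

theorem nonempty_stalk_line (hΦ : SuppExact Φ) (hfix : FixPts Φ) {x : X} (hx : IsClosed ({x} : Set X)) :
    Nonempty ((Φ.obj (OC X)).obj.presheaf.stalk x ≃ₗ[X.presheaf.stalk x] X.presheaf.stalk x) := by
  let R := X.presheaf.stalk x
  let Stk := Groth.L00.Stk.F X x
  let Lx := Stk.obj (Φ.obj (OC X)).obj
  haveI : Module.Finite R Lx := Groth.L19.SupportPullback.finite_stalk _ (Φ.obj (OC X)).property x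
  haveI : ∀ N, IsIso ((adj x).counit.app N) := fun N => isIso_counit N
  let E := Groth.L15.Ref.strE x
  have main : ∀ (T : ModuleCat.{u} R), IsFiniteLength R T → ∀ q : R →ₗ[R] T, Function.Surjective q →
      ∃ φ₀ : Lx →ₗ[R] T, Function.Surjective φ₀ ∧
        (∀ φ : Lx →ₗ[R] T, (∀ t : T, ∃ j : T →ₗ[R] T, j (q 1) = t) → LinearMap.ker φ₀ ≤ LinearMap.ker φ) := by
    intro T hT q hq
    obtain ⟨n, hn⟩ : ∃ n : ℕ, Module.length R T ≤ n := by
      obtain ⟨n, hn⟩ := ENat.ne_top_iff_exists.1 (Module.length_ne_top_iff.2 hT)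
      exact ⟨n, hn.ge⟩
    let P : CC X := ⟨sky x T, Groth.L07.BvdB.PointEfface.isCoh_sky hx n T hn⟩
    obtain ⟨eP⟩ := hfix x hx P (Groth.L07.BvdB.PointEfface.support_sky hx T)
    let qq : Stk.obj (Coh.structureModule X) ⟶ T := ModuleCat.ofHom (q.comp E.symm.toLinearMap)
    let g₀ : OC X ⟶ P := ObjectProperty.homMk ((adj x).homEquiv _ _ qq)
    have hsurjStalk : ∀ {M : X.Modules} (g : M ⟶ sky x T), Epi g →
        Function.Surjective (((adj x).homEquiv _ _).symm g) := by
      intro M g hg
      rw [Adjunction.homEquiv_counit]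
      haveI : Epi (Stk.map g) := inferInstance
      exact (ModuleCat.epi_iff_surjective _).1 (epi_comp _ _)
    haveI : Epi g₀.hom := by
      rw [Groth.L21.Mod.epi_iff_stalk_surjective]
      intro y
      by_cases hy : y = x
      · subst hy
        intro t
        obtain ⟨r, hr⟩ := hq ((adj y).counit.app T t)
        refine ⟨E r, (ConcreteCategory.bijective_of_isIso ((adj y).counit.app T)).1 ?_⟩
        rw [← hr]
        have h1 := ConcreteCategory.congr_hom ((Adjunction.homEquiv_counit (adj y) _ _ g₀.hom).symm.trans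
          (((adj y).homEquiv _ _).symm_apply_apply qq)) (E r)
        exact h1.trans (congrArg q (E.symm_apply_apply r))
      · intro t
        haveI := Groth.L07.BvdB.PointEfface.subsingleton_stalk hx T hy
        exact ⟨0, @Subsingleton.elim _ (Groth.L07.BvdB.PointEfface.subsingleton_stalk hx T hy) _ _⟩
    haveI := epi_map hΦ g₀
    let θ₀ := (Φ.map g₀).hom ≫ eP.hom
    refine ⟨(((adj x).homEquiv _ _).symm θ₀).hom, hsurjStalk θ₀ (epi_comp _ _), fun φ hj => ?_⟩
    obtain ⟨g, hg⟩ := Φ.map_surjective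
      (ObjectProperty.homMk ((adj x).homEquiv _ _ (ModuleCat.ofHom φ) ≫ eP.inv) : Φ.obj (OC X) ⟶ Φ.obj P)
    let qg := ((adj x).homEquiv _ _).symm g.hom
    obtain ⟨j, hj1⟩ := hj (qg (E 1))
    have hfac : qg = qq ≫ ModuleCat.ofHom j := by
      refine ModuleCat.hom_ext (LinearMap.ext fun s => ?_)
      obtain ⟨r, rfl⟩ := E.surjective s
      rw [show r = r • (1 : R) from (mul_one r).symm, map_smul E, map_smul, map_smul]
      refine congrArg (r • ·) (hj1.symm.trans ?_)
      exact congrArg j (congrArg q (E.symm_apply_apply 1)).symm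
    let ej : P ⟶ P := ObjectProperty.homMk ((skyF x).map (ModuleCat.ofHom j))
    have hg' : g = g₀ ≫ ej := ObjectProperty.hom_ext _ (((adj x).homEquiv _ _).symm.injective (by
      show qg = ((adj x).homEquiv _ _).symm ((adj x).homEquiv _ _ qq ≫ (skyF x).map (ModuleCat.ofHom j))
      rw [Adjunction.homEquiv_naturality_right_symm, Equiv.symm_apply_apply, hfac]))
    obtain ⟨j', hj'⟩ : ∃ j' : (skyF x).obj T ⟶ (skyF x).obj T, eP.inv ≫ (Φ.map ej).hom ≫ eP.hom = j' := ⟨_, rfl⟩
    have hθ : (adj x).homEquiv _ _ (ModuleCat.ofHom φ) = θ₀ ≫ j' := by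
      have h1 := congrArg (·.hom) hg
      rw [hg', Functor.map_comp] at h1
      change (Φ.map g₀).hom ≫ (Φ.map ej).hom = _ ≫ eP.inv at h1
      rw [← hj']
      simp only [θ₀, Category.assoc, Iso.hom_inv_id_assoc]
      rw [reassoc_of% h1, Iso.inv_hom_id]
      exact (Category.comp_id _).symm
    have hφ : ModuleCat.ofHom φ = Stk.map θ₀ ≫ Stk.map j' ≫ (adj x).counit.app T := by
      refine (((adj x).homEquiv _ _).symm_apply_apply _).symm.trans
        ((congrArg ((adj x).homEquiv _ _).symm hθ).trans ?_)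
      rw [Adjunction.homEquiv_counit]
      exact (congrArg (· ≫ (adj x).counit.app T) (Stk.map_comp θ₀ j')).trans (Category.assoc _ _ _)
    intro m hm
    have hm' : Stk.map θ₀ m = 0 := (ConcreteCategory.bijective_of_isIso ((adj x).counit.app T)).1 (by
      rw [map_zero]
      have := LinearMap.mem_ker.1 hm
      rw [Adjunction.homEquiv_counit] at this
      exact this)
    rw [LinearMap.mem_ker]
    have h2 := ConcreteCategory.congr_hom hφ m
    refine h2.trans ?_
    show ((adj x).counit.app T) (Stk.map j' (Stk.map θ₀ m)) = 0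
    rw [hm', map_zero, map_zero]
  have hK : IsFiniteLength R (ModuleCat.of R (ResidueField R)) :=
    isFiniteLength_of_exists_compositionSeries (R := R) (M := ResidueField R) (isFiniteLength_iff_exists_compositionSeries.1
      (by haveI : IsSimpleModule R (ResidueField R) := isSimpleModule_iff_quot_maximal.2 ⟨_, inferInstance, ⟨LinearEquiv.refl _ _⟩⟩
          exact isFiniteLength_iff_isNoetherian_isArtinian.2 ⟨inferInstance, inferInstance⟩))
  obtain ⟨φ₀, h₀, huniq⟩ := main (ModuleCat.of R (ResidueField R)) hK (Algebra.linearMap R (ResidueField R))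
    Ideal.Quotient.mk_surjective
  haveI : Module.Finite (X.presheaf.stalk x) ((Φ.obj (OC X)).obj.presheaf.stalk x) :=
    Groth.L19.SupportPullback.finite_stalk _ (Φ.obj (OC X)).property x
  refine nonempty_equiv_of_quotients φ₀ h₀ (fun φ => huniq φ fun t => ?_) fun n => ?_
  · obtain ⟨r, rfl⟩ := Ideal.Quotient.mk_surjective t
    refine ⟨r • LinearMap.id, ?_⟩
    show r • algebraMap R (ResidueField R) 1 = _
    rw [map_one, Algebra.smul_def, mul_one]
    rfl
  · obtain ⟨φ, hφ, -⟩ := main (ModuleCat.of R (R ⧸ maximalIdeal R ^ n))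
      (Groth.L04.isFiniteLength_quotient_pow n) (Submodule.mkQ _) (Submodule.mkQ_surjective _)
    exact ⟨φ, hφ⟩

theorem isInvertible_line (hΦ : SuppExact Φ) (hfix : FixPts Φ) : PicF.IsInvertible (Φ.obj (OC X)).obj :=
  isInvertible_of_closed_stalks (Φ.obj (OC X)).property fun _ hx => nonempty_stalk_line hΦ hfix hx

end Groth.L07.PtAuto
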