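import Groth.Agent.L07.PtAuto.Auto
import Groth.Agent.L07.BvdB.TwistLinear
import Groth.Agent.L08.Cube.Inverse
import Groth.Agent.L03.Euler.Twist
import Groth.Agent.L21.Bundle.Hom
import Groth.Agent.L16.Rees.PushExact

/-! An exact functor fixing the points is a twisted pullback on coherent modules. -/

set_option autoImplicit false
set_option linter.style.haveILetI false
set_option backward.defeqAttrib.useBackward true
set_option backward.isDefEq.respectTransparency false
set_option backward.isDefEq.respectTransparency.types false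

universe u
open CategoryTheory CategoryTheory.Limits AlgebraicGeometry
attribute [local instance] HasDerivedCategory.standard

noncomputable section

namespace Groth.L07.PtAuto

open Groth.L00.Sky Groth.L07.BvdB.PointSelf Groth.L07.BvdB.PointEfface Groth.L00.Tensor
open Groth.L16.Rees.PushExact (rightModIso)

variable {X : Scheme.{u}} [IsLocallyNoetherian X]

/-- Twisting coherent modules. -/
def Tw (N : X.Modules) (hN : PicF.IsInvertible N) : CC X ⥤ CC X :=
  ObjectProperty.lift _ (ObjectProperty.ι _ ⋙ DCoh.tensorRightMod N)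
    fun M => Groth.L03.Euler.isCoh_tensor hN M.property

instance (N : X.Modules) (hN : PicF.IsInvertible N) : (Tw N hN).Additive where
  map_add := ObjectProperty.hom_ext _ (DCoh.tensorRightMod N).map_add

variable [CompactSpace X] (hreg : Models.IsRegularScheme X) [(SGA6.perfP X).IsTriangulated]
  (F : PP X ⥤ PP X) [F.Additive] [F.CommShift ℤ]

instance : (cohFun hreg F).Additive where
  map_add {A B f g} := by
    refine ObjectProperty.hom_ext _ ?_
    show (DerivedCategory.homologyFunctor X.Modules 0).map ((GD hreg F).map (f + g)) = _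
    have h : (toP hreg).map (f + g) = (toP hreg).map f + (toP hreg).map g :=
      ObjectProperty.hom_ext _ ((DerivedCategory.singleFunctor X.Modules 0).map_add (f := f.hom) (g := g.hom))
    show (DerivedCategory.homologyFunctor X.Modules 0).map (F.map ((toP hreg).map (f + g))).hom = _
    rw [h, F.map_add]
    exact (DerivedCategory.homologyFunctor X.Modules 0).map_add

variable [F.IsTriangulated]

theorem exists_pullback_twist {k : Type u} [Field k] [X.Over (Spec (CommRingCat.of k))]
    [JacobsonSpace X] [F.Linear k] [F.Full] [F.Faithful] [F.EssSurj]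
    (h : ∀ (M : X.Modules), Coh.IsCoh M → (CohB1.support M).Finite → (CohB1.support M).Nonempty →
        (∀ x ∈ CohB1.support M, IsClosed ({x} : Set X)) →
        ∀ (hM : DCoh.IsPerfect (DCoh.inD X M)),
          Nonempty ((⟨DCoh.inD X M, hM⟩ : PP X) ≅ F.obj ⟨DCoh.inD X M, hM⟩)) :
    ∃ (f : X ≅ X) (_ : f.hom ≫ (X ↘ Spec (CommRingCat.of k)) = X ↘ Spec (CommRingCat.of k))
      (_ : ∀ x : X, f.hom.base x = x) (L : X.Modules) (_ : PicF.IsInvertible L),
      Nonempty (GD hreg F ≅ (ObjectProperty.ι (fun M : X.Modules => Coh.IsCoh M) ⋙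
        Scheme.Modules.pullback f.hom ⋙ DCoh.tensorRightMod L) ⋙ DerivedCategory.singleFunctor X.Modules 0) := by
  have hθ : ∀ (x : X) (hx : IsClosed ({x} : Set X)) (T : ModuleCat.{u} (X.presheaf.stalk x))
      (hT : IsFiniteLength (X.presheaf.stalk x) T), Nonempty (skyP hreg hx T hT ≅ F.obj (skyP hreg hx T hT)) := by
    intro x hx T hT
    obtain ⟨n, hn⟩ : ∃ n : ℕ, Module.length (X.presheaf.stalk x) T ≤ n := by
      obtain ⟨n, hn⟩ := ENat.ne_top_iff_exists.1 (Module.length_ne_top_iff.2 hT)
      exact ⟨n, hn.ge⟩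
    exact iso_of_support (F := F) hx h (isCoh_sky hx n T hn) (support_sky hx T) _
  let θ := fun x hx T hT => (hθ x hx T hT).some
  haveI := cohFun_full hreg F θ
  haveI := cohFun_faithful hreg F θ
  let Φ := cohFun hreg F
  have hfix : FixPts Φ := by
    intro x hx M hM
    obtain ⟨e⟩ := iso_of_support (F := F) hx h M.property hM (isPerfect_inD hreg M.property)
    exact ⟨(DerivedCategory.homologyFunctor X.Modules 0).mapIso ((SGA6.perfP X).ι.mapIso e.symm) ≪≫
      (DerivedCategory.singleFunctorCompHomologyFunctorIso X.Modules 0).app M.obj⟩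
  have hΦ : SuppExact Φ :=
    { supp := supp_eq_of_fix fun x hx => hfix x hx _ (Groth.L07.BvdB.PointSky.support_pt_subset hx)
      exact := fun f g w hS => cohFun_shortExact hreg F θ f g w hS }
  let L : X.Modules := (Φ.obj (OC X)).obj
  have hL : PicF.IsInvertible L := isInvertible_line hΦ hfix
  obtain ⟨N, hN, ⟨eN⟩⟩ := Groth.L08.Cube.exists_inverse hL
  let E := Groth.L21.Bundle.twistEquiv (L := N) (L' := L) eN
  haveI : (tensorRightF N).Full := (inferInstance : E.functor.Full)
  haveI : (tensorRightF N).Faithful := (inferInstance : E.functor.Faithful)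
  haveI : (DCoh.tensorRightMod N).Full := Functor.Full.of_iso (rightModIso N).symm
  haveI : (DCoh.tensorRightMod N).Faithful :=
    Functor.Faithful.of_iso (rightModIso N).symm
  haveI : (Tw N hN).Full := inferInstanceAs (ObjectProperty.lift _ _ _).Full
  haveI : (Tw N hN).Faithful := inferInstanceAs (ObjectProperty.lift _ _ _).Faithful
  let Ψ := Φ ⋙ Tw N hN
  haveI : Ψ.Full := inferInstanceAs (Φ ⋙ Tw N hN).Full
  haveI : Ψ.Additive := inferInstanceAs (Φ ⋙ Tw N hN).Additive
  have hΨ : SuppExact Ψ :=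
    { supp := fun M => (Groth.L03.Euler.support_tensor hN _).trans (hΦ.supp M)
      exact := fun f g w hS => by
        obtain ⟨w', hS'⟩ := hΦ.exact f g w hS
        let S := ShortComplex.mk (Φ.map f).hom (Φ.map g).hom w'
        haveI : (DCoh.tensorRightMod N).PreservesZeroMorphisms := inferInstance
        have hT : (S.map (DCoh.tensorRightMod N)).ShortExact :=
          (ShortComplex.shortExact_iff_of_iso (S.mapNatIso (rightModIso N))).2
            (Groth.L03.Euler.shortExact_tensor hN hS')
        exact ⟨(S.map (DCoh.tensorRightMod N)).zero, hT⟩ }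
  let u : Ψ.obj (OC X) ≅ OC X := ObjectProperty.isoMk _ eN
  have hess : ∀ M : CC X, ∃ M₀ : CC X, Nonempty (Ψ.obj M₀ ≅ M) := by
    intro M
    let ML : CC X := ⟨CohB1.tensorMod M.obj L, Groth.L03.Euler.isCoh_tensor hL M.property⟩
    obtain ⟨M₀, ⟨e⟩⟩ := cohFun_essSurj hreg F θ ML
    exact ⟨M₀, ⟨(Tw N hN).mapIso e ≪≫ ObjectProperty.isoMk _
      (tensorAssoc M.obj L N ≪≫ tensorIso (Iso.refl _) eN ≪≫ tensorUnitRight M.obj)⟩⟩
  have hk : ∀ a : k, (Ψ.map (a • 𝟙 (OC X))).hom = a • 𝟙 (Ψ.obj (OC X)).obj := by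
    intro a
    haveI := Groth.L07.BvdB.linear_tensorRight (k := k) N
    show (DCoh.tensorRightMod N).map (Φ.map (a • 𝟙 (OC X))).hom = _
    rw [cohFun_smul hreg F θ (OC X) a, Functor.map_smul, CategoryTheory.Functor.map_id]
    rfl
  refine ⟨autIso u hΨ hess, autIso_over u hΨ hess hk, autIso_base u hΨ hess, L, hL, ⟨?_⟩⟩
  let back : DCoh.tensorRightMod N ⋙ DCoh.tensorRightMod L ≅ 𝟭 X.Modules :=
    NatIso.hcomp (rightModIso N) (rightModIso L) ≪≫ E.unitIso.symm
  let e₁ : Φ ⋙ ObjectProperty.ι _ ≅ Ψ ⋙ ObjectProperty.ι _ ⋙ DCoh.tensorRightMod L :=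
    (Functor.isoWhiskerLeft (Φ ⋙ ObjectProperty.ι _) back ≪≫ Functor.rightUnitor _).symm
  let e₂ : Φ ⋙ ObjectProperty.ι _ ≅ ObjectProperty.ι _ ⋙
      Scheme.Modules.pullback (autIso u hΨ hess).hom ⋙ DCoh.tensorRightMod L :=
    e₁ ≪≫ Functor.isoWhiskerRight (pullIso u hΨ hess).symm (DCoh.tensorRightMod L)
  exact cohFunIso hreg F θ ≪≫ Functor.isoWhiskerRight e₂ (DerivedCategory.singleFunctor X.Modules 0)

end Groth.L07.PtAuto
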