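import Groth.Agent.L07.PtAuto.Frac

/-! An exact autoequivalence fixing the structure sheaf is the pullback by an automorphism. -/

set_option autoImplicit false
set_option linter.style.haveILetI false
set_option backward.defeqAttrib.useBackward true
set_option backward.isDefEq.respectTransparency false
set_option backward.isDefEq.respectTransparency.types false

universe u
open CategoryTheory CategoryTheory.Limits AlgebraicGeometry TopologicalSpace Opposite
open Groth.L18.Frame (rs ro rs_rs rs_self rs_smul)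

noncomputable section

namespace Groth.L07.PtAuto

variable {X : Scheme.{u}} [IsLocallyNoetherian X] [CompactSpace X] {Ψ : CC X ⥤ CC X}
  (u : Ψ.obj (OC X) ≅ OC X) (hΨ : SuppExact Ψ)

/-- The transported section. -/
def eta (N : CC X) (U : X.Opens) (m : Γ(N.obj, U)) : Γ((Ψ.obj N).obj, U) :=
  (exists_rel (u := u) hΨ N U m).choose

theorem eta_spec (N : CC X) (U : X.Opens) (m : Γ(N.obj, U)) : Rel Ψ u N U m (eta u hΨ N U m) :=
  (exists_rel (u := u) hΨ N U m).choose_spec

/-- The transported function. -/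
def rho (U : X.Opens) (r : Γ(X, U)) : Γ(X, U) := u.hom.hom.app U (eta u hΨ (OC X) U r)

variable [Ψ.Additive]

theorem eta_eq {N : CC X} {U : X.Opens} {m : Γ(N.obj, U)} {n : Γ((Ψ.obj N).obj, U)}
    (h : Rel Ψ u N U m n) : eta u hΨ N U m = n :=
  (rel_eq_iff hΨ (eta_spec u hΨ N U m) h).1 rfl

theorem eta_add (N : CC X) (U : X.Opens) (m m' : Γ(N.obj, U)) :
    eta u hΨ N U (m + m') = eta u hΨ N U m + eta u hΨ N U m' :=
  eta_eq u hΨ (rel_add hΨ (eta_spec u hΨ N U m) (eta_spec u hΨ N U m'))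

theorem eta_smul (N : CC X) (U : X.Opens) (r : Γ(X, U)) (m : Γ(N.obj, U)) :
    eta u hΨ N U (r • m) = rho u hΨ U r • eta u hΨ N U m :=
  eta_eq u hΨ (rel_smul hΨ (eta_spec u hΨ N U m) (eta_spec u hΨ (OC X) U r))

theorem eta_natural {N N' : CC X} (g : N ⟶ N') (U : X.Opens) (m : Γ(N.obj, U)) :
    eta u hΨ N' U (g.hom.app U m) = (Ψ.map g).hom.app U (eta u hΨ N U m) :=
  eta_eq u hΨ ((eta_spec u hΨ N U m).comp g)

theorem eta_res (N : CC X) {U V : X.Opens} (h : V ≤ U) (m : Γ(N.obj, U)) :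
    eta u hΨ N V (rs N.obj h m) = rs (Ψ.obj N).obj h (eta u hΨ N U m) :=
  eta_eq u hΨ ((eta_spec u hΨ N U m).res h)

theorem eta_injective (N : CC X) (U : X.Opens) : Function.Injective (eta u hΨ N U) := fun m m' h =>
  (rel_eq_iff hΨ (eta_spec u hΨ N U m) (eta_spec u hΨ N U m')).2 h

theorem rho_one (U : X.Opens) : rho u hΨ U 1 = 1 := by
  have hu : u.hom.hom.app U (u.inv.hom.app U (one₁ U)) = one₁ U := app_congrC u.inv_hom_id U _
  have h : Rel Ψ u (OC X) U (one₁ U) (u.inv.hom.app U (one₁ U)) :=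
    ⟨OC X, 𝟙 _, 𝟙 _, one₁ U, u.inv.hom.app U (one₁ U),
      BijOn.of_isIso (𝟙 (OC X).obj) U, rfl, rfl,
      (app_congrC (show tmap Ψ u (𝟙 (OC X)) = u.hom by rw [tmap, Ψ.map_id, Category.id_comp]) U _).trans hu,
      app_congrC (Ψ.map_id (OC X)) U _⟩
  exact (congrArg (u.hom.hom.app U) (eta_eq u hΨ h)).trans hu

theorem rho_mul (U : X.Opens) (r r' : Γ(X, U)) : rho u hΨ U (r * r') = rho u hΨ U r * rho u hΨ U r' :=
  (congrArg (u.hom.hom.app U) (eta_smul u hΨ (OC X) U r r')).trans (Scheme.Modules.Hom.app_smul _ _ _)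

theorem rho_add (U : X.Opens) (r r' : Γ(X, U)) : rho u hΨ U (r + r') = rho u hΨ U r + rho u hΨ U r' :=
  (congrArg (u.hom.hom.app U) (eta_add u hΨ (OC X) U r r')).trans (map_add _ _ _)

theorem rho_res {U V : X.Opens} (h : V ≤ U) (r : Γ(X, U)) :
    rho u hΨ V (X.presheaf.map (homOfLE h).op r) = X.presheaf.map (homOfLE h).op (rho u hΨ U r) :=
  (congrArg (u.hom.hom.app V) (eta_res u hΨ (OC X) h r)).trans (app_rs _ h _)

theorem rho_scalar {k : Type u} [CommRing k] [X.Over (Spec (CommRingCat.of k))] (a : k)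
    (hk : (Ψ.map (a • 𝟙 (OC X))).hom = a • 𝟙 (Ψ.obj (OC X)).obj) (U : X.Opens) :
    rho u hΨ U (X.presheaf.map (homOfLE (le_top : U ≤ ⊤)).op (Coh.toGlobal (X ↘ Spec (CommRingCat.of k)) a)) =
      X.presheaf.map (homOfLE (le_top : U ≤ ⊤)).op (Coh.toGlobal (X ↘ Spec (CommRingCat.of k)) a) := by
  let c : Γ(X, U) := X.presheaf.map (homOfLE (le_top : U ≤ ⊤)).op (Coh.toGlobal (X ↘ Spec (CommRingCat.of k)) a)
  have h1 : (a • 𝟙 (OC X).obj).app U (one₁ U) = c := (KLin.smul_app_apply a (𝟙 (OC X).obj) U (one₁ U)).trans (mul_one c)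
  have h2 := eta_natural u hΨ (a • 𝟙 (OC X)) U (one₁ U)
  rw [hk] at h2
  have h3 := congrArg (u.hom.hom.app U)
    ((congrArg (eta u hΨ (OC X) U) h1.symm).trans (h2.trans (KLin.smul_app_apply a _ U _)))
  refine h3.trans ((Scheme.Modules.Hom.app_smul _ _ _).trans ?_)
  exact (congrArg (c • ·) (rho_one u hΨ U)).trans (mul_one c)

variable [Ψ.Full] (hess : ∀ N : CC X, ∃ M : CC X, Nonempty (Ψ.obj M ≅ N))

include hess in
theorem eta_bijective (N : CC X) (U : X.Opens) : Function.Bijective (eta u hΨ N U) :=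
  ⟨eta_injective u hΨ N U, fun n => by
    obtain ⟨m, hm⟩ := exists_rel' (u := u) hΨ hess N U n
    exact ⟨m, eta_eq u hΨ hm⟩⟩

include hess in
theorem rho_bijective (U : X.Opens) : Function.Bijective (rho u hΨ U) := by
  haveI : IsIso u.hom.hom := inferInstanceAs (IsIso ((ObjectProperty.ι _).map u.hom))
  exact (ConcreteCategory.bijective_of_isIso (u.hom.hom.app U)).comp (eta_bijective u hΨ hess (OC X) U)

/-- The automorphism of the structure sheaf. -/
def rhoIso : X.presheaf ≅ (TopCat.Presheaf.pushforward CommRingCat (𝟙 X.toTopCat)).obj X.presheaf :=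
  NatIso.ofComponents
    (fun U => (RingEquiv.ofBijective
      ({ toFun := rho u hΨ U.unop
         map_one' := rho_one u hΨ _
         map_mul' := rho_mul u hΨ _
         map_zero' := add_eq_left.1 ((rho_add u hΨ _ 0 0).symm.trans (by rw [add_zero]))
         map_add' := rho_add u hΨ _ } : Γ(X, U.unop) →+* Γ(X, U.unop))
      (rho_bijective u hΨ hess _)).toCommRingCatIso)
    (fun {U V} i => by
      ext r
      exact rho_res u hΨ i.unop.le r)

/-- The automorphism. -/
def autIso : X ≅ X :=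
  let e : X.toPresheafedSpace ≅ X.toPresheafedSpace :=
    PresheafedSpace.isoOfComponents (Iso.refl _) (rhoIso u hΨ hess).symm
  let s : X.toSheafedSpace ≅ X.toSheafedSpace := InducedCategory.isoMk e
  let l := LocallyRingedSpace.isoOfSheafedSpaceIso s
  { hom := ⟨l.hom⟩
    inv := ⟨l.inv⟩
    hom_inv_id := Scheme.forgetToLocallyRingedSpace.map_injective l.hom_inv_id
    inv_hom_id := Scheme.forgetToLocallyRingedSpace.map_injective l.inv_hom_id }

theorem autIso_base (x : X) : (autIso u hΨ hess).hom.base x = x := rfl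

theorem autIso_app (U : X.Opens) (r : Γ(X, U)) : (autIso u hΨ hess).hom.app U r = rho u hΨ U r := rfl

theorem autIso_over {k : Type u} [CommRing k] [X.Over (Spec (CommRingCat.of k))]
    (hk : ∀ a : k, (Ψ.map (a • 𝟙 (OC X))).hom = a • 𝟙 (Ψ.obj (OC X)).obj) :
    (autIso u hΨ hess).hom ≫ (X ↘ Spec (CommRingCat.of k)) = X ↘ Spec (CommRingCat.of k) := by
  refine ext_of_isAffine ?_
  rw [← cancel_epi (Scheme.ΓSpecIso (CommRingCat.of k)).inv]
  ext a
  have h := rho_scalar u hΨ a (hk a) ⊤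
  have e : X.presheaf.map (homOfLE (le_refl (⊤ : X.Opens))).op = 𝟙 _ := X.presheaf.map_id _
  rw [e] at h
  exact h

/-- The transported sections as a morphism of modules. -/
def etaHom (N : CC X) : N.obj ⟶ (Scheme.Modules.pushforward (autIso u hΨ hess).hom).obj (Ψ.obj N).obj :=
  ⟨PresheafOfModules.homMk
    { app := fun U => AddCommGrpCat.ofHom
        { toFun := fun m => eta u hΨ N U.unop m
          map_zero' := add_eq_left.1 ((eta_add u hΨ N U.unop 0 0).symm.trans (by rw [add_zero]))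
          map_add' := eta_add u hΨ N U.unop }
      naturality := fun U V i => by
        ext m
        exact eta_res u hΨ N i.unop.le m }
    (fun U r m => eta_smul u hΨ N U.unop r m)⟩

theorem etaHom_app (N : CC X) (U : X.Opens) (m : Γ(N.obj, U)) :
    (etaHom u hΨ hess N).app U m = eta u hΨ N U m := rfl

instance isIso_etaHom (N : CC X) : IsIso (etaHom u hΨ hess N) :=
  Scheme.Modules.Hom.isIso_iff_isIso_app.2 fun U =>
    (ConcreteCategory.isIso_iff_bijective _).2 (eta_bijective u hΨ hess N U)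

/-- The natural isomorphism with the direct image. -/
def etaIso : ObjectProperty.ι _ ≅
    Ψ ⋙ ObjectProperty.ι _ ⋙ Scheme.Modules.pushforward (autIso u hΨ hess).hom :=
  NatIso.ofComponents (fun N => asIso (etaHom u hΨ hess N)) fun {N N'} g => by
    refine Scheme.Modules.hom_ext _ _ fun U => ?_
    ext m
    exact eta_natural u hΨ g U m

/-- The functor is the pullback. -/
def pullIso : ObjectProperty.ι _ ⋙ Scheme.Modules.pullback (autIso u hΨ hess).hom ≅
    Ψ ⋙ ObjectProperty.ι _ :=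
  let f := (autIso u hΨ hess).hom
  let A := Scheme.Modules.pullbackPushforwardAdjunction f
  haveI : IsIso A.counit := inferInstance
  Functor.isoWhiskerRight (etaIso u hΨ hess) (Scheme.Modules.pullback f) ≪≫
    Functor.isoWhiskerLeft (Ψ ⋙ ObjectProperty.ι _) (asIso A.counit) ≪≫ Functor.rightUnitor _

end Groth.L07.PtAuto
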