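import Groth.Agent.L07.PtAuto.Efface
import Mathlib.AlgebraicGeometry.Morphisms.FiniteType

/-! Detection of coherent modules among bounded coherent objects by the closed points. -/

set_option autoImplicit false
set_option linter.style.haveILetI false
set_option backward.defeqAttrib.useBackward true
set_option backward.isDefEq.respectTransparency false
set_option backward.isDefEq.respectTransparency.types false

universe u
open CategoryTheory CategoryTheory.Limits CategoryTheory.Pretriangulated AlgebraicGeometry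
open IsLocalRing
attribute [local instance] HasDerivedCategory.standard

noncomputable section

namespace Groth.L07.PtAuto

open Groth.L00.Sky Groth.L07.BvdB.PointSky Groth.L07.BvdB.PointEfface

variable {X : Scheme.{u}}

local notation "tt" => DerivedCategory.TStructure.t
local notation "sg" => DerivedCategory.singleFunctor X.Modules
local notation "HH" => DerivedCategory.homologyFunctor X.Modules

/-- An extension killed by a monomorphism of modules of finite length. -/
def Killed {x : X} (K : DCoh.D X) (T : ModuleCat.{u} (X.presheaf.stalk x)) (i : ℤ)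
    (φ : K ⟶ ((skD x).obj T)⟦i⟧) : Prop :=
  ∃ (T' : ModuleCat.{u} (X.presheaf.stalk x)) (u : T ⟶ T'), IsFiniteLength (X.presheaf.stalk x) T' ∧
    Function.Injective u ∧ φ ≫ ((skD x).map u)⟦i⟧' = 0

/-- Negative extensions by points vanish and positive ones are effaceable. -/
def Good (K : DCoh.D X) : Prop :=
  ∀ (x : X), IsClosed ({x} : Set X) → ∀ (T : ModuleCat.{u} (X.presheaf.stalk x)),
    IsFiniteLength (X.presheaf.stalk x) T →
      (∀ i : ℤ, i < 0 → ∀ φ : K ⟶ ((skD x).obj T)⟦i⟧, φ = 0) ∧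
      ∀ i : ℤ, 0 < i → ∀ φ : K ⟶ ((skD x).obj T)⟦i⟧, Killed K T i φ

theorem Good.of_iso {K L : DCoh.D X} (h : Good K) (e : K ≅ L) : Good L := fun x hx T hT =>
  ⟨fun i hi φ => (cancel_epi e.hom).1 (((h x hx T hT).1 i hi (e.hom ≫ φ)).trans comp_zero.symm),
    fun i hi φ => by
      obtain ⟨T', u, hT', hu, h0⟩ := (h x hx T hT).2 i hi (e.hom ≫ φ)
      exact ⟨T', u, hT', hu, (cancel_epi e.hom).1 (by rw [← Category.assoc, h0, comp_zero])⟩⟩

/-- One cohomology object. -/
def singleShift (M : X.Modules) (c : ℤ) : (sg c).obj M ≅ (DCoh.inD X M)⟦-c⟧ :=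
  (((DerivedCategory.singleFunctors X.Modules).shiftIso (-c) c 0 (by omega)).app M).symm

variable [IsLocallyNoetherian X]

theorem good_inD (M : X.Modules) (hM : Coh.IsCoh M) : Good (DCoh.inD X M) := fun x hx T hT => by
  refine ⟨fun i hi φ => ?_, fun i hi φ => efface_coh hx M hM T hT i hi φ⟩
  haveI : (tt).IsLE (DCoh.inD X M) 0 := inferInstanceAs (((sg 0).obj M).IsLE 0)
  haveI : (tt).IsGE ((skD x).obj T) 0 := inferInstanceAs (((sg 0).obj ((skyF x).obj T)).IsGE 0)
  haveI : (tt).IsGE (((skD x).obj T)⟦i⟧) (-i) := (tt).isGE_shift _ 0 i (-i) (by omega)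
  exact (tt).zero φ 0 (-i) (by omega)

/-- Extensions of degree above the lowest cohomology are effaceable. -/
theorem killed_bdd {x : X} (hx : IsClosed ({x} : Set X)) :
    ∀ (n : ℕ) (a : ℤ) (K : DCoh.D X), DCoh.IsCohD K → K.IsGE a → K.IsLE (a + n - 1) →
      ∀ (T : ModuleCat.{u} (X.presheaf.stalk x)), IsFiniteLength (X.presheaf.stalk x) T →
        ∀ r : ℤ, 0 < r + a → ∀ φ : K ⟶ ((skD x).obj T)⟦r⟧, Killed K T r φ := by
  intro n
  induction n with
  | zero =>
    intro a K _ _ _ T hT r _ φ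
    refine ⟨T, 𝟙 T, hT, Function.injective_id, ?_⟩
    exact ((tt).isZero K (a + (0 : ℕ) - 1) a (by omega)).eq_of_src _ _
  | succ n ih =>
    intro a K hK hge hle T hT r hr φ
    let c : ℤ := a + n
    let L := ((tt).truncLT c).obj K
    let R := ((tt).truncGE c).obj K
    haveI hL1 : L.IsGE a := by
      rw [DerivedCategory.isGE_iff]
      intro i hi
      have := Groth.L10.isIso_H_ι (A := X.Modules) c i (by omega) K
      exact (DerivedCategory.isZero_of_isGE K a i hi).of_iso (asIso ((HH i).map (((tt).truncLTι c).app K)))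
    haveI hL2 : L.IsLE (a + n - 1) := (tt).isLE_truncLT_obj _ _ _ (by omega)
    have hLc : DCoh.IsCohD L := fun i => by
      by_cases hi : i < c
      · have := Groth.L10.isIso_H_ι (A := X.Modules) c i hi K
        exact Groth.L16.CohSupport.isCoh_of_iso (asIso ((HH i).map (((tt).truncLTι c).app K))).symm (hK i)
      · exact Groth.L29.DC.RHomC.isCoh_of_isZero (Groth.L10.isZero_H_LT c i (by omega) K)
    haveI : R.IsLE c := by
      rw [DerivedCategory.isLE_iff]
      intro i hi
      have := Groth.L10.isIso_H_π (A := X.Modules) c i (by omega) K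
      exact (DerivedCategory.isZero_of_isLE K (a + (n + 1 : ℕ) - 1) i (by omega)).of_iso
        (asIso ((HH i).map (((tt).truncGEπ c).app K))).symm
    haveI : R.IsGE c := inferInstance
    obtain ⟨N, ⟨eN⟩⟩ := DerivedCategory.exists_iso_singleFunctor_obj_of_isGE_of_isLE R c
    have hN : Coh.IsCoh N := by
      have := Groth.L10.isIso_H_π (A := X.Modules) c c le_rfl K
      exact Groth.L16.CohSupport.isCoh_of_iso (asIso ((HH c).map (((tt).truncGEπ c).app K)) ≪≫
        (HH c).mapIso eN ≪≫ (DerivedCategory.singleFunctorCompHomologyFunctorIso X.Modules c).app N) (hK c)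
    obtain ⟨T₁, u₁, hT₁, hu₁, h₁⟩ := ih a L hLc hL1 hL2 T hT r hr (((tt).truncLTι c).app K ≫ φ)
    obtain ⟨χ, hχ⟩ := Triangle.yoneda_exact₂ _ ((tt).triangleLTGE_distinguished c K) (φ ≫ ((skD x).map u₁)⟦r⟧')
      (by show ((tt).truncLTι c).app K ≫ φ ≫ _ = 0
          rw [← Category.assoc]; exact h₁)
    let e : R ≅ (DCoh.inD X N)⟦-c⟧ := eN ≪≫ singleShift N c
    let o := shiftFunctorAdd' (DCoh.D X) (r + c) (-c) r (by omega)
    obtain ⟨θ, hθ⟩ := (shiftFunctor (DCoh.D X) (-c)).map_surjective (e.inv ≫ χ ≫ o.hom.app ((skD x).obj T₁))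
    obtain ⟨T₂, u₂, hT₂, hu₂, h₂⟩ := efface_coh hx N hN T₁ hT₁ (r + c) (by omega) θ
    refine ⟨T₂, u₁ ≫ u₂, hT₂, hu₂.comp hu₁, ?_⟩
    have h3 : χ ≫ ((skD x).map u₂)⟦r⟧' = 0 := by
      rw [← cancel_epi e.inv, ← cancel_mono (o.hom.app ((skD x).obj T₂)), comp_zero, zero_comp, Category.assoc,
        Category.assoc, o.hom.naturality, ← Category.assoc, ← Category.assoc, Category.assoc e.inv, ← hθ]
      show θ⟦-c⟧' ≫ (((skD x).map u₂)⟦r + c⟧')⟦-c⟧' = 0
      rw [← Functor.map_comp, h₂, Functor.map_zero]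
    have hχ' : φ ≫ ((skD x).map u₁)⟦r⟧' = ((tt).truncGEπ c).app K ≫ χ := hχ
    rw [Functor.map_comp, Functor.map_comp, ← Category.assoc, hχ', Category.assoc, h3, comp_zero]

/-- A good object bounded above lives in nonpositive degrees. -/
theorem isLE_zero_of_good [CompactSpace X] {K : DCoh.D X} (hK : DCoh.IsCohD K) (hg : Good K) :
    ∀ (n : ℕ), K.IsLE n → K.IsLE 0 := by
  intro n
  induction n with
  | zero => exact id
  | succ n ih =>
    intro h
    refine ih ((DerivedCategory.isLE_iff K _).2 fun i hi => ?_)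
    rcases eq_or_ne i ((n + 1 : ℕ) : ℤ) with rfl | hne
    · rw [Groth.L21.Mod.isZero_iff_support_eq_empty]
      by_contra hs
      obtain ⟨x, hxs, hx⟩ := (Groth.L16.CohSupport.isClosed_support _ (hK _).2).exists_closed_singleton
        (Set.nonempty_iff_ne_empty.2 hs)
      obtain ⟨g, hgne⟩ := exists_hom_pt (hK ((n + 1 : ℕ) : ℤ)) hxs
      obtain ⟨s⟩ := nonempty_iso_sky x
      obtain ⟨φ, hφ⟩ := Groth.L07.BvdB.PointHom.exists_top_hom K _ (g ≫ s.hom)
        (fun h0 => hgne ((cancel_mono s.hom).1 (h0.trans zero_comp.symm)))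
      have hR : IsFiniteLength (X.presheaf.stalk x) (Groth.L21.RR.resMod x) := by
        haveI : IsSimpleModule (X.presheaf.stalk x) (Groth.L21.RR.resMod x) :=
          isSimpleModule_iff_quot_maximal.2 ⟨maximalIdeal (X.presheaf.stalk x), inferInstance,
            ⟨LinearEquiv.refl _ _⟩⟩
        exact isFiniteLength_iff_isNoetherian_isArtinian.2 ⟨inferInstance, inferInstance⟩
      exact hφ ((hg x hx _ hR).1 _ (by omega) φ)
    · exact DerivedCategory.isZero_of_isLE K ((n + 1 : ℕ) : ℤ) i (by omega)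

/-- A good object bounded below lives in nonnegative degrees. -/
theorem isGE_zero_of_good [CompactSpace X] {K : DCoh.D X} (hK : DCoh.IsCohD K) (hg : Good K) [K.IsLE 0] :
    ∀ (n : ℕ), K.IsGE (-(n : ℤ)) → K.IsGE 0 := by
  intro n
  induction n with
  | zero => intro h; simpa using h
  | succ n ih =>
    intro h
    refine ih ((DerivedCategory.isGE_iff K _).2 fun i hi => ?_)
    let a : ℤ := -((n + 1 : ℕ) : ℤ)
    rcases eq_or_ne i a with rfl | hne
    swap
    · exact DerivedCategory.isZero_of_isGE K a i (by simp only [a] at hne ⊢; omega)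
    rw [Groth.L21.Mod.isZero_iff_support_eq_empty]
    by_contra hs
    obtain ⟨x, hxs, hx⟩ := (Groth.L16.CohSupport.isClosed_support _ (hK a).2).exists_closed_singleton
      (Set.nonempty_iff_ne_empty.2 hs)
    obtain ⟨g₀, hgne⟩ := exists_hom_pt (hK a) hxs
    obtain ⟨s⟩ := nonempty_iso_sky x
    let R0 := Groth.L21.RR.resMod x
    have hR : IsFiniteLength (X.presheaf.stalk x) R0 := by
      haveI : IsSimpleModule (X.presheaf.stalk x) R0 :=
        isSimpleModule_iff_quot_maximal.2 ⟨maximalIdeal (X.presheaf.stalk x), inferInstance,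
          ⟨LinearEquiv.refl _ _⟩⟩
      exact isFiniteLength_iff_isNoetherian_isArtinian.2 ⟨inferInstance, inferInstance⟩
    let L := ((tt).truncLT (a + 1)).obj K
    let K' := ((tt).truncGE (a + 1)).obj K
    haveI : L.IsLE a := (tt).isLE_truncLT_obj _ _ _ (by omega)
    haveI : L.IsGE a := by
      rw [DerivedCategory.isGE_iff]
      intro i hi
      have := Groth.L10.isIso_H_ι (A := X.Modules) (a + 1) i (by omega) K
      exact (DerivedCategory.isZero_of_isGE K a i hi).of_iso
        (asIso ((HH i).map (((tt).truncLTι (a + 1)).app K)))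
    obtain ⟨N, ⟨eN⟩⟩ := DerivedCategory.exists_iso_singleFunctor_obj_of_isGE_of_isLE L a
    have := Groth.L10.isIso_H_ι (A := X.Modules) (a + 1) a (by omega) K
    let eH : N ≅ DCoh.HD K a := ((DerivedCategory.singleFunctorCompHomologyFunctorIso X.Modules a).app N).symm ≪≫
      ((HH a).mapIso eN).symm ≪≫ asIso ((HH a).map (((tt).truncLTι (a + 1)).app K))
    let g : N ⟶ (skyF x).obj R0 := eH.hom ≫ g₀ ≫ s.hom
    have hg0 : g ≠ 0 := fun h0 => hgne ((cancel_mono s.hom).1 ((cancel_epi eH.hom).1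
      (h0.trans (by rw [zero_comp, comp_zero]))))
    let e : L ≅ (DCoh.inD X N)⟦-a⟧ := eN ≪≫ singleShift N a
    let χ : L ⟶ ((skD x).obj R0)⟦-a⟧ := e.hom ≫ ((sg 0).map g)⟦-a⟧'
    let T := Triangle.invRotate (((tt).triangleLTGE (a + 1)).obj K)
    have hT : T ∈ distTriang (DCoh.D X) := inv_rot_of_distTriang _ ((tt).triangleLTGE_distinguished (a + 1) K)
    obtain ⟨p, q, hp, hq⟩ : ∃ p q : ℤ, K.IsGE p ∧ K.IsLE q := ⟨a, 0, h, inferInstance⟩
    have hKc : DCoh.IsCohD (K'⟦(-1 : ℤ)⟧) := fun i => by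
      refine Groth.L16.CohSupport.isCoh_of_iso (Groth.L10.hShiftIso K' (-1) i (i - 1) (by omega)).symm ?_
      by_cases hi : a + 1 ≤ i - 1
      · have := Groth.L10.isIso_H_π (A := X.Modules) (a + 1) (i - 1) hi K
        exact Groth.L16.CohSupport.isCoh_of_iso (asIso ((HH (i - 1)).map (((tt).truncGEπ (a + 1)).app K))) (hK _)
      · exact Groth.L29.DC.RHomC.isCoh_of_isZero (Groth.L10.isZero_H_GE (a + 1) (i - 1) (by omega) K)
    haveI : K'.IsLE 0 := by
      rw [DerivedCategory.isLE_iff]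
      intro i hi
      have := Groth.L10.isIso_H_π (A := X.Modules) (a + 1) i (by simp only [a]; omega) K
      exact (DerivedCategory.isZero_of_isLE K 0 i hi).of_iso
        (asIso ((HH i).map (((tt).truncGEπ (a + 1)).app K))).symm
    haveI : (tt).IsGE (K'⟦(-1 : ℤ)⟧) (a + 2) := (tt).isGE_shift K' (a + 1) (-1) (a + 2) (by omega)
    haveI : (tt).IsLE (K'⟦(-1 : ℤ)⟧) 1 := (tt).isLE_shift K' 0 (-1) 1 (by omega)
    obtain ⟨T₁, u₁, hT₁, hu₁, h₁⟩ := killed_bdd hx (n + 1) (a + 2) (K'⟦(-1 : ℤ)⟧) hKc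
      (inferInstanceAs ((tt).IsGE (K'⟦(-1 : ℤ)⟧) (a + 2)))
      ((tt).isLE_of_le _ 1 _ (by simp only [a]; omega))
      R0 hR (-a) (by omega) (T.mor₁ ≫ χ)
    obtain ⟨φ, hφ⟩ := Triangle.yoneda_exact₂ T hT (χ ≫ ((skD x).map u₁)⟦-a⟧') (by rw [← Category.assoc]; exact h₁)
    obtain ⟨T₂, u₂, -, hu₂, h₂⟩ := (hg x hx T₁ hT₁).2 (-a) (by simp only [a]; omega) φ
    have h3 : χ ≫ ((skD x).map (u₁ ≫ u₂))⟦-a⟧' = 0 := by
      rw [Functor.map_comp, Functor.map_comp, ← Category.assoc, hφ, Category.assoc]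
      erw [h₂]
      exact comp_zero
    haveI : Mono (u₁ ≫ u₂) := (ModuleCat.mono_iff_injective _).2 (hu₂.comp hu₁)
    refine hg0 ((cancel_mono ((skyF x).map (u₁ ≫ u₂))).1 ?_)
    rw [zero_comp]
    apply (sg 0).map_injective
    apply (shiftFunctor (DCoh.D X) (-a)).map_injective
    rw [Functor.map_comp, Functor.map_comp, Functor.map_zero, Functor.map_zero, ← cancel_epi e.hom, comp_zero,
      ← Category.assoc]
    exact h3

/-- A good bounded coherent object is a coherent module in degree zero. -/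
theorem exists_iso_inD_of_good [CompactSpace X] {K : DCoh.D X} (hK : DCoh.IsCohD K) (hg : Good K)
    (p q : ℤ) [hp : K.IsGE p] [hq : K.IsLE q] :
    ∃ M : X.Modules, Coh.IsCoh M ∧ Nonempty (K ≅ DCoh.inD X M) := by
  haveI : K.IsLE 0 := isLE_zero_of_good hK hg q.toNat ((tt).isLE_of_le K q _ (Int.self_le_toNat q))
  haveI : K.IsGE 0 := isGE_zero_of_good hK hg (-p).toNat ((tt).isGE_of_ge K _ p (by omega))
  obtain ⟨M, ⟨e⟩⟩ := DerivedCategory.exists_iso_singleFunctor_obj_of_isGE_of_isLE K 0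
  exact ⟨M, Groth.L16.CohSupport.isCoh_of_iso ((HH 0).mapIso e ≪≫
    (DerivedCategory.singleFunctorCompHomologyFunctorIso X.Modules 0).app M) (hK 0), ⟨e⟩⟩

end Groth.L07.PtAuto
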