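import Groth.Agent.L07.BvdB.PointSelf
import Groth.Agent.L10.DerTrunc

/-! Extensions of bounded coherent objects by modules of finite length at a point are effaceable. -/

set_option autoImplicit false
set_option linter.style.haveILetI false
set_option backward.defeqAttrib.useBackward true
set_option backward.isDefEq.respectTransparency false
set_option backward.isDefEq.respectTransparency.types false

universe u v v'
open CategoryTheory CategoryTheory.Limits CategoryTheory.Pretriangulated AlgebraicGeometry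
open IsLocalRing
attribute [local instance] HasDerivedCategory.standard

noncomputable section

namespace Groth.L07.PtAuto

section Abstract

variable {C : Type u} [Category.{v} C] [Preadditive C] [HasZeroObject C] [HasShift C ℤ]
  [∀ n : ℤ, (shiftFunctor C n).Additive] [Pretriangulated C]

/-- Exactness of the shifted Hom sequence at the first vertex. -/
theorem exists_lift_shift {T : Triangle C} (hT : T ∈ distTriang C) {P : C} (n : ℤ)
    (φ : P ⟶ (T.obj₁⟦(1 : ℤ)⟧)⟦n⟧) (h : φ ≫ (T.mor₁⟦(1 : ℤ)⟧')⟦n⟧' = 0) :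
    ∃ ψ : P ⟶ T.obj₃⟦n⟧, φ = ψ ≫ T.mor₃⟦n⟧' := by
  let η := (shiftFunctorCompIsoId C (-n) n (by omega)).app P
  obtain ⟨φ₁, hφ₁⟩ := (shiftFunctor C n).map_surjective (η.hom ≫ φ)
  have h2 : φ₁ ≫ T.mor₁⟦(1 : ℤ)⟧' = 0 := by
    apply (shiftFunctor C n).map_injective
    rw [Functor.map_comp, hφ₁, Category.assoc, h, comp_zero, Functor.map_zero]
  obtain ⟨ψ, hψ⟩ := T.coyoneda_exact₁ hT φ₁ h2
  refine ⟨η.inv ≫ ψ⟦n⟧', ?_⟩
  rw [Category.assoc, ← Functor.map_comp, ← hψ, hφ₁, Iso.inv_hom_id_assoc]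

end Abstract

section Natural

variable {A : Type u} [Category.{v} A] [Abelian A] [HasDerivedCategory.{v'} A]

/-- The connecting maps of short exact sequences are natural. -/
theorem singleδ_naturality {S S' : ShortComplex A} (hS : S.ShortExact) (hS' : S'.ShortExact) (f : S ⟶ S') :
    hS.singleδ ≫ ((DerivedCategory.singleFunctor A 0).map f.τ₁)⟦(1 : ℤ)⟧' =
      (DerivedCategory.singleFunctor A 0).map f.τ₃ ≫ hS'.singleδ := by
  let s := DerivedCategory.singleFunctor A 0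
  obtain ⟨c, hc₂, hc₃⟩ := complete_distinguished_triangle_morphism _ _ hS.singleTriangle_distinguished
    hS'.singleTriangle_distinguished (s.map f.τ₁) (s.map f.τ₂) (by
      show s.map S.f ≫ s.map f.τ₂ = s.map f.τ₁ ≫ s.map S'.f
      rw [← s.map_comp, ← s.map_comp, f.comm₁₂])
  obtain ⟨c₀, rfl⟩ := s.map_surjective c
  have h0 : c₀ = f.τ₃ := by
    haveI := hS.epi_g
    rw [← cancel_epi S.g]
    apply s.map_injective
    rw [s.map_comp, ← f.comm₂₃, s.map_comp]
    exact hc₂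
  subst h0
  exact hc₃

end Natural

open Groth.L00.Sky Groth.L07.BvdB.PointSky Groth.L07.BvdB.PointEfface

variable {X : Scheme.{u}}

/-- The skyscraper in degree zero. -/
abbrev skD (x : X) : ModuleCat.{u} (X.presheaf.stalk x) ⥤ DCoh.D X :=
  skyF x ⋙ DerivedCategory.singleFunctor X.Modules 0

instance preservesMono_skyF (x : X) : (skyF (X := X) x).PreservesMonomorphisms :=
  Functor.preservesMonomorphisms_of_adjunction (adj x)

theorem isFiniteLength_of_fg {x : X} [IsLocallyNoetherian X] {E : ModuleCat.{u} (X.presheaf.stalk x)}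
    (hE : LocCoh.IsPowerTorsion (maximalIdeal (X.presheaf.stalk x)) E) {E₀ : Submodule (X.presheaf.stalk x) E}
    (hfg : E₀.FG) : IsFiniteLength (X.presheaf.stalk x) E₀ := by
  let m := maximalIdeal (X.presheaf.stalk x)
  obtain ⟨n, hn⟩ := Groth.L04.exists_pow_kills_of_fg hE hfg
  haveI : Module.Finite (X.presheaf.stalk x) E₀ := Module.Finite.iff_fg.2 hfg
  haveI : IsArtinian (X.presheaf.stalk x) E₀ := by
    let hT' : Module.IsTorsionBySet (X.presheaf.stalk x) E₀ ((m ^ n : Ideal _) : Set _) :=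
      fun z r => Subtype.ext (hn z.1 z.2 r.1 r.2)
    letI := hT'.module
    haveI : IsScalarTower (X.presheaf.stalk x) ((X.presheaf.stalk x) ⧸ m ^ n) E₀ := hT'.isScalarTower
    haveI : IsArtinianRing ((X.presheaf.stalk x) ⧸ m ^ n) := isArtinianRing_quotient_pow n
    haveI : Module.Finite ((X.presheaf.stalk x) ⧸ m ^ n) E₀ :=
      Module.Finite.of_restrictScalars_finite (X.presheaf.stalk x) _ _
    exact isArtinian_of_surjective_algebraMap (R := (X.presheaf.stalk x) ⧸ m ^ n) Ideal.Quotient.mk_surjective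
  exact isFiniteLength_iff_isNoetherian_isArtinian.2 ⟨inferInstance, inferInstance⟩

/-- An embedding into an injective power torsion module. -/
theorem exists_injective {x : X} [IsLocallyNoetherian X] (Q : ModuleCat.{u} (X.presheaf.stalk x))
    (hQ : LocCoh.IsPowerTorsion (maximalIdeal (X.presheaf.stalk x)) Q) :
    ∃ (E : ModuleCat.{u} (X.presheaf.stalk x)) (u : Q ⟶ E), Injective E ∧ Function.Injective u ∧
      LocCoh.IsPowerTorsion (maximalIdeal (X.presheaf.stalk x)) E ∧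
      LocCoh.IsPowerTorsion (maximalIdeal (X.presheaf.stalk x))
        (ModuleCat.of (X.presheaf.stalk x) (E ⧸ LinearMap.range u.hom)) := by
  let I := Injective.under Q
  let m := maximalIdeal (X.presheaf.stalk x)
  have hI : Module.Injective (X.presheaf.stalk x) I :=
    Module.injective_module_of_injective_object (inj := Injective.injective_under Q)
  let E : ModuleCat.{u} (X.presheaf.stalk x) := ModuleCat.of _ (Groth.L04.powTorsion m I)
  have hQE : ∀ a : Q, (Injective.ι Q).hom a ∈ Groth.L04.powTorsion m I := fun a => by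
    obtain ⟨n, hn⟩ := hQ a
    exact Groth.L04.mem_powTorsion.2 ⟨n, fun r hr => by rw [← map_smul, hn r hr, map_zero]⟩
  let u : Q ⟶ E := ModuleCat.ofHom ((Injective.ι Q).hom.codRestrict _ hQE)
  refine ⟨E, u, (Module.injective_iff_injective_object (X.presheaf.stalk x) E).1
    (Groth.L04.injective_powTorsion hI m), fun a b h =>
    (ModuleCat.mono_iff_injective (Injective.ι Q)).1 inferInstance (congrArg Subtype.val h),
    Groth.L04.isPowerTorsion_powTorsion m I, fun a => ?_⟩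
  obtain ⟨a, rfl⟩ := Submodule.mkQ_surjective (LinearMap.range u.hom) a
  obtain ⟨n, hn⟩ := Groth.L04.isPowerTorsion_powTorsion m I a
  exact ⟨n, fun r hr => (map_smul (Submodule.mkQ (LinearMap.range u.hom)) r a).symm.trans
    ((congrArg _ (hn r hr)).trans (map_zero _))⟩

/-- Maps from coherent modules to shifts of torsion skyscrapers come from finite length. -/
def Finitary (x : X) (s : ℕ) : Prop :=
  ∀ (M : X.Modules), Coh.IsCoh M → ∀ (Q : ModuleCat.{u} (X.presheaf.stalk x)),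
    LocCoh.IsPowerTorsion (maximalIdeal (X.presheaf.stalk x)) Q →
    ∀ φ : DCoh.inD X M ⟶ ((skD x).obj Q)⟦(s : ℤ)⟧,
      ∃ (Q₀ : ModuleCat.{u} (X.presheaf.stalk x)) (u : Q₀ ⟶ Q) (φ₀ : DCoh.inD X M ⟶ ((skD x).obj Q₀)⟦(s : ℤ)⟧),
        IsFiniteLength (X.presheaf.stalk x) Q₀ ∧ Function.Injective u ∧ φ = φ₀ ≫ ((skD x).map u)⟦(s : ℤ)⟧'

variable [IsLocallyNoetherian X]

theorem finitary_zero (x : X) : Finitary x 0 := by
  intro M hM Q hQ φ
  let z := (shiftFunctorZero (DCoh.D X) ℤ)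
  obtain ⟨g, hg⟩ := (DerivedCategory.singleFunctor X.Modules 0).map_surjective (φ ≫ z.hom.app ((skD x).obj Q))
  let g' := ((adj x).homEquiv M Q).symm g
  haveI : Module.Finite (X.presheaf.stalk x) ((Groth.L00.Stk.F X x).obj M) :=
    Groth.L16.Rees.FibreMonoEpi.finite_stalk hM x
  let Q₀ : ModuleCat.{u} (X.presheaf.stalk x) := ModuleCat.of _ (LinearMap.range g'.hom)
  let u : Q₀ ⟶ Q := ModuleCat.ofHom (LinearMap.range g'.hom).subtype
  let g₀ := (adj x).homEquiv M Q₀ (ModuleCat.ofHom g'.hom.rangeRestrict)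
  have hgu : g = g₀ ≫ (skyF x).map u := by
    rw [← (adj x).homEquiv_naturality_right, ← ((adj x).homEquiv M Q).apply_symm_apply g]
    rfl
  refine ⟨Q₀, u, (DerivedCategory.singleFunctor X.Modules 0).map g₀ ≫ z.inv.app ((skD x).obj Q₀),
    isFiniteLength_of_fg hQ (by rw [← Submodule.map_top]; exact (Module.Finite.fg_top).map _),
    Subtype.val_injective, ?_⟩
  rw [Category.assoc]
  erw [← z.inv.naturality ((skD x).map u)]
  show φ = (DerivedCategory.singleFunctor X.Modules 0).map g₀ ≫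
    (DerivedCategory.singleFunctor X.Modules 0).map ((skyF x).map u) ≫ z.inv.app ((skD x).obj Q)
  rw [← Functor.map_comp_assoc, ← hgu, hg, Category.assoc, Iso.hom_inv_id_app]
  exact (Category.comp_id _).symm

/-- The inductive step. -/
theorem finitary_step {x : X} (hx : IsClosed ({x} : Set X)) {s : ℕ} (hs : Finitary x s)
    (M : X.Modules) (hM : Coh.IsCoh M) (Q : ModuleCat.{u} (X.presheaf.stalk x))
    (hQ : LocCoh.IsPowerTorsion (maximalIdeal (X.presheaf.stalk x)) Q)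
    (φ : DCoh.inD X M ⟶ ((skD x).obj Q)⟦((s + 1 : ℕ) : ℤ)⟧)
    (N₁ : Submodule (X.presheaf.stalk x) Q) (hN₁ : N₁.FG) :
    ∃ (Q₀ E₀ : ModuleCat.{u} (X.presheaf.stalk x)) (v : Q₀ ⟶ Q) (w : Q₀ ⟶ E₀)
      (φ₀ : DCoh.inD X M ⟶ ((skD x).obj Q₀)⟦((s + 1 : ℕ) : ℤ)⟧),
      IsFiniteLength (X.presheaf.stalk x) Q₀ ∧ IsFiniteLength (X.presheaf.stalk x) E₀ ∧
      Function.Injective v ∧ Function.Injective w ∧ N₁ ≤ LinearMap.range v.hom ∧
      φ = φ₀ ≫ ((skD x).map v)⟦((s + 1 : ℕ) : ℤ)⟧' ∧ φ₀ ≫ ((skD x).map w)⟦((s + 1 : ℕ) : ℤ)⟧' = 0 := by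
  let R := X.presheaf.stalk x
  haveI : IsNoetherianRing R := inferInstance
  obtain ⟨E, u, hEi, hu, hE, hQ'⟩ := exists_injective Q hQ
  haveI := hEi
  let π : E →ₗ[R] E ⧸ LinearMap.range u.hom := (LinearMap.range u.hom).mkQ
  let Q' : ModuleCat.{u} R := ModuleCat.of R (E ⧸ LinearMap.range u.hom)
  have hS : (ShortComplex.mk u (ModuleCat.ofHom π : E ⟶ Q') (by
      ext a; exact (Submodule.Quotient.mk_eq_zero _).2 ⟨a, rfl⟩)).ShortExact :=
    { exact := (ShortComplex.ShortExact.moduleCat_exact_iff_function_exact _).2 fun a =>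
        (Submodule.Quotient.mk_eq_zero _).trans Iff.rfl
      mono_f := (ModuleCat.mono_iff_injective u).2 hu
      epi_g := (ModuleCat.epi_iff_surjective _).2 (Submodule.mkQ_surjective _) }
  let n : ℤ := ((s : ℕ) : ℤ)
  let o := shiftFunctorAdd' (DCoh.D X) 1 n ((s + 1 : ℕ) : ℤ) (by omega)
  haveI : Injective ((skyF x).obj E) :=
    haveI : (Groth.L00.Stk.F X x).PreservesMonomorphisms := inferInstance
    Injective.injective_of_adjoint (adj x) E
  have h0 : φ ≫ ((skD x).map u)⟦((s + 1 : ℕ) : ℤ)⟧' = 0 := hom_single_eq_zero _ ((skyF x).obj E) _ (by omega) _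
  obtain ⟨ψ, hψ⟩ := exists_lift_shift (shortExact_sky hx hS).singleTriangle_distinguished n
    (φ ≫ o.hom.app ((skD x).obj Q)) (by
      rw [Category.assoc]
      show φ ≫ o.hom.app ((skD x).obj Q) ≫ (shiftFunctor (DCoh.D X) (1 : ℤ) ⋙ shiftFunctor (DCoh.D X) n).map ((skD x).map u) = 0
      rw [← o.hom.naturality, ← Category.assoc, h0, zero_comp])
  obtain ⟨S₀, u', ψ₀, hS₀, -, hψ₀⟩ := hs M hM Q' hQ' ψ
  haveI : IsNoetherian R S₀ := (isFiniteLength_iff_isNoetherian_isArtinian.1 hS₀).1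
  obtain ⟨G, hG⟩ := (IsNoetherian.noetherian (⊤ : Submodule R S₀))
  choose pre hpre using fun a : S₀ => Submodule.mkQ_surjective (LinearMap.range u.hom) (u'.hom a)
  let E₀ : Submodule R E := Submodule.span R (pre '' (G : Set S₀)) ⊔ N₁.map u.hom
  have hE₀ : E₀.FG := (Submodule.fg_span (G.finite_toSet.image pre)).sup (hN₁.map _)
  let T₀ : Submodule R Q' := E₀.map π
  have hT₀ : ∀ a, u'.hom a ∈ T₀ := by
    have : (⊤ : Submodule R S₀) ≤ T₀.comap u'.hom := by
      rw [← hG, Submodule.span_le]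
      exact fun a ha => ⟨pre a, Submodule.mem_sup_left (Submodule.subset_span ⟨a, ha, rfl⟩), hpre a⟩
    exact fun a => this (Submodule.mem_top (x := a))
  let Q₀ : Submodule R Q := E₀.comap u.hom
  let u₀ : ModuleCat.of R Q₀ ⟶ ModuleCat.of R E₀ :=
    ModuleCat.ofHom ((u.hom.comp Q₀.subtype).codRestrict E₀ fun a => a.2)
  let π₀ : ModuleCat.of R E₀ ⟶ ModuleCat.of R T₀ :=
    ModuleCat.ofHom ((π.comp E₀.subtype).codRestrict T₀ fun a => ⟨a.1, a.2, rfl⟩)
  have hS' : (ShortComplex.mk u₀ π₀ (by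
      ext a; exact (Submodule.Quotient.mk_eq_zero _).2 ⟨a.1, rfl⟩)).ShortExact :=
    { exact := (ShortComplex.ShortExact.moduleCat_exact_iff_function_exact _).2 fun a => by
        refine ⟨fun ha => ?_, ?_⟩
        · obtain ⟨b, hb⟩ := (Submodule.Quotient.mk_eq_zero _).1 (congrArg Subtype.val ha)
          exact ⟨⟨b, show u.hom b ∈ E₀ by rw [hb]; exact a.2⟩, Subtype.ext hb⟩
        · rintro ⟨b, rfl⟩
          exact Subtype.ext ((Submodule.Quotient.mk_eq_zero _).2 ⟨b.1, rfl⟩)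
      mono_f := (ModuleCat.mono_iff_injective u₀).2 fun a b h => Subtype.ext (hu (congrArg Subtype.val h))
      epi_g := (ModuleCat.epi_iff_surjective π₀).2 (by
        rintro ⟨_, a, ha, rfl⟩; exact ⟨⟨a, ha⟩, rfl⟩) }
  let v : ModuleCat.of R Q₀ ⟶ Q := ModuleCat.ofHom Q₀.subtype
  let c : ModuleCat.of R T₀ ⟶ Q' := ModuleCat.ofHom T₀.subtype
  let a₀ : S₀ ⟶ ModuleCat.of R T₀ := ModuleCat.ofHom (u'.hom.codRestrict T₀ hT₀)
  have hnat := singleδ_naturality (shortExact_sky hx hS') (shortExact_sky hx hS)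
    ((skyF x).mapShortComplex.map (ShortComplex.homMk v (ModuleCat.ofHom E₀.subtype) c (by ext a; rfl) (by ext a; rfl)))
  let δ₀ := (shortExact_sky hx hS').singleδ
  let φ₀ : DCoh.inD X M ⟶ ((skD x).obj (ModuleCat.of R Q₀))⟦((s + 1 : ℕ) : ℤ)⟧ :=
    ψ₀ ≫ ((skD x).map a₀)⟦n⟧' ≫ δ₀⟦n⟧' ≫ o.inv.app ((skD x).obj (ModuleCat.of R Q₀))
  refine ⟨ModuleCat.of R Q₀, ModuleCat.of R E₀, v, u₀, φ₀, ?_, isFiniteLength_of_fg hE hE₀,
    Subtype.val_injective, fun a b h => Subtype.ext (hu (congrArg Subtype.val h)), fun a ha => ?_, ?_, ?_⟩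
  · obtain ⟨-, hA⟩ := isFiniteLength_iff_isNoetherian_isArtinian.1 (isFiniteLength_of_fg hE hE₀)
    obtain ⟨hN, -⟩ := isFiniteLength_iff_isNoetherian_isArtinian.1 (isFiniteLength_of_fg hE hE₀)
    have hinj : Function.Injective u₀.hom := fun a b h => Subtype.ext (hu (congrArg Subtype.val h))
    exact isFiniteLength_iff_isNoetherian_isArtinian.2 ⟨isNoetherian_of_injective u₀.hom hinj,
      isArtinian_of_injective u₀.hom hinj⟩
  · exact ⟨⟨a, Submodule.mem_sup_right ⟨a, ha, rfl⟩⟩, rfl⟩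
  · have hn : o.inv.app _ ≫ ((skD x).map v)⟦((s + 1 : ℕ) : ℤ)⟧' =
        (((skD x).map v)⟦(1 : ℤ)⟧')⟦n⟧' ≫ o.inv.app ((skD x).obj Q) := (o.inv.naturality _).symm
    simp only [φ₀, Category.assoc]
    have hnat' : δ₀ ≫ ((skD x).map v)⟦(1 : ℤ)⟧' = (skD x).map c ≫ (shortExact_sky hx hS).singleδ := hnat
    rw [hn, ← Functor.map_comp_assoc (shiftFunctor (DCoh.D X) n) δ₀, hnat', Functor.map_comp_assoc,
      ← Functor.map_comp_assoc (shiftFunctor (DCoh.D X) n) ((skD x).map a₀), ← Functor.map_comp (skD x)]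
    have ha : a₀ ≫ c = u' := rfl
    rw [ha, ← Category.assoc, ← Category.assoc, ← hψ₀]
    erw [← hψ]
    rw [Category.assoc,
      Iso.hom_inv_id_app, Category.comp_id]
  · have hn : o.inv.app _ ≫ ((skD x).map u₀)⟦((s + 1 : ℕ) : ℤ)⟧' =
        (((skD x).map u₀)⟦(1 : ℤ)⟧')⟦n⟧' ≫ o.inv.app ((skD x).obj (ModuleCat.of R E₀)) := (o.inv.naturality _).symm
    have h31 := comp_distTriang_mor_zero₃₁ _ (shortExact_sky hx hS').singleTriangle_distinguished
    simp only [φ₀, Category.assoc]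
    rw [hn, ← Functor.map_comp_assoc (shiftFunctor (DCoh.D X) n) δ₀]
    erw [h31]
    simp

theorem finitary {x : X} (hx : IsClosed ({x} : Set X)) : ∀ s : ℕ, Finitary x s
  | 0 => finitary_zero x
  | s + 1 => fun M hM Q hQ φ => by
    obtain ⟨Q₀, E₀, v, w, φ₀, hQ₀, -, hv, -, -, h, -⟩ :=
      finitary_step hx (finitary hx s) M hM Q hQ φ ⊥ Submodule.fg_bot
    exact ⟨Q₀, v, φ₀, hQ₀, hv, h⟩

/-- Positive extensions of a coherent module by finite length are killed by a monomorphism. -/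
theorem efface_coh {x : X} (hx : IsClosed ({x} : Set X)) (M : X.Modules) (hM : Coh.IsCoh M)
    (T : ModuleCat.{u} (X.presheaf.stalk x)) (hT : IsFiniteLength (X.presheaf.stalk x) T) (i : ℤ) (hi : 0 < i)
    (φ : DCoh.inD X M ⟶ ((skD x).obj T)⟦i⟧) :
    ∃ (T' : ModuleCat.{u} (X.presheaf.stalk x)) (u : T ⟶ T'), IsFiniteLength (X.presheaf.stalk x) T' ∧
      Function.Injective u ∧ φ ≫ ((skD x).map u)⟦i⟧' = 0 := by
  obtain ⟨s, rfl⟩ : ∃ s : ℕ, i = ((s + 1 : ℕ) : ℤ) := ⟨(i - 1).toNat, by omega⟩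
  haveI := (isFiniteLength_iff_isNoetherian_isArtinian.1 hT).1
  haveI := (isFiniteLength_iff_isNoetherian_isArtinian.1 hT).2
  obtain ⟨Q₀, E₀, v, w, φ₀, -, hE₀, hv, hw, htop, h, h0⟩ := finitary_step hx (finitary hx s) M hM T
    Groth.L04.isPowerTorsion_of_isArtinian φ ⊤ (IsNoetherian.noetherian ⊤)
  haveI : IsIso v := (ConcreteCategory.isIso_iff_bijective v).2
    ⟨hv, fun a => htop (Submodule.mem_top (x := a))⟩
  refine ⟨E₀, inv v ≫ w, hE₀, hw.comp (ConcreteCategory.bijective_of_isIso (inv v)).1, ?_⟩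
  rw [h, Category.assoc, ← Functor.map_comp, ← Functor.map_comp, IsIso.hom_inv_id_assoc]
  exact h0

end Groth.L07.PtAuto
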