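import Groth.Agent.L07.PtAuto.LineImage
import Groth.Agent.L16.QcqsPush
import Groth.Agent.L29.DCoh.QCohOps
import Groth.Agent.L16.FrameIso

/-! Sections of coherent modules as fractions of morphisms. -/

set_option autoImplicit false
set_option linter.style.haveILetI false
set_option backward.defeqAttrib.useBackward true
set_option backward.isDefEq.respectTransparency false
set_option backward.isDefEq.respectTransparency.types false

universe u
open CategoryTheory CategoryTheory.Limits AlgebraicGeometry TopologicalSpace Opposite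
open Groth.L18.Frame (rs ro rs_rs rs_self rs_smul)

noncomputable section

namespace Groth.L07.PtAuto

variable {X : Scheme.{u}}

theorem app_rs {M N : X.Modules} (g : M ⟶ N) {U V : X.Opens} (h : V ≤ U) (s : Γ(M, U)) :
    g.app V (rs M h s) = rs N h (g.app U s) :=
  NatTrans.naturality_apply g.mapPresheaf (homOfLE h).op s

theorem app_congrC {M N : CC X} {f g : M ⟶ N} (h : f = g) (U : X.Opens) (s : Γ(M.obj, U)) :
    f.hom.app U s = g.hom.app U s := by rw [h]

theorem BijOn.comp {L M N : X.Modules} {f : L ⟶ M} {g : M ⟶ N} {U : X.Opens} (hf : BijOn f U) (hg : BijOn g U) :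
    BijOn (f ≫ g) U := fun x hx => by
  rw [Functor.map_comp]
  exact (hg x hx).comp (hf x hx)

theorem BijOn.of_isIso {M N : X.Modules} (g : M ⟶ N) [IsIso g] (U : X.Opens) : BijOn g U :=
  fun _ _ => ConcreteCategory.bijective_of_isIso _

theorem BijOn.mono {M N : X.Modules} {g : M ⟶ N} {U V : X.Opens} (h : BijOn g U) (hV : V ≤ U) : BijOn g V :=
  fun x hx => h x (hV hx)

theorem BijOn.pullback_fst {M N P Q : X.Modules} {p : P ⟶ M} {q : P ⟶ N} {a : M ⟶ Q} {b : N ⟶ Q}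
    (sq : IsPullback p q a b) {U : X.Opens} (hb : BijOn b U) : BijOn p U := fun x hx => by
  have sqx := sq.map (Groth.L00.Stk.F X x)
  haveI : IsIso ((Groth.L00.Stk.F X x).map b) := (ConcreteCategory.isIso_iff_bijective _).2 (hb x hx)
  haveI : IsIso ((Groth.L00.Stk.F X x).map p) := sqx.isIso_fst_of_isIso
  exact ConcreteCategory.bijective_of_isIso _

theorem isCoh_pullback [IsLocallyNoetherian X] {M N Q : X.Modules} (a : M ⟶ Q) (b : N ⟶ Q)
    (hM : Coh.IsCoh M) (hN : Coh.IsCoh N) (hQ : Coh.IsQCoh Q) : Coh.IsCoh (pullback a b) := by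
  haveI : Coh.IsQCoh (M ⊞ N) := (Groth.L16.Devissage.isCoh_biprod hM hN).1
  haveI := hQ
  let e : pullback a b ≅ kernel (biprod.desc a (-b)) :=
    (Abelian.PullbackToBiproductIsKernel.isLimitPullbackToBiproduct a b).conePointUniqueUpToIso
      (limit.isLimit _)
  haveI : Coh.IsQCoh (kernel (biprod.desc a (-b))) := Groth.L29.DC.isQCoh_kernel' _ ‹_› ‹_›
  exact Groth.L16.CohSupport.isCoh_of_iso e.symm
    (Groth.L16.Rees.RelVanish.isCoh_of_mono (kernel.ι _) (Groth.L16.Devissage.isCoh_biprod hM hN))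

variable [IsLocallyNoetherian X]

/-- The section one. -/
abbrev one₁ (U : X.Opens) : Γ((OC X).obj, U) := (1 : Γ(X, U))

theorem rs_one {U V : X.Opens} (h : V ≤ U) : rs (OC X).obj h (one₁ U) = one₁ V :=
  map_one (X.presheaf.map (homOfLE h).op).hom

/-- A map vanishing at a generator vanishes. -/
theorem zeroOn_of_gen {P N : X.Modules} {U : X.Opens} (c : P ⟶ (OC X).obj) (hc : BijOn c U) (t : Γ(P, U))
    (ht : c.app U t = one₁ U) (f : P ⟶ N) (hf : f.app U t = 0) : ZeroOn f U := by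
  refine ZeroOn.of_app fun V hV s => ?_
  let r : Γ(X, V) := c.app V s
  have hs : s = r • rs P hV t := (hc.app hV).1 (by
    refine Eq.trans ?_ (Scheme.Modules.Hom.app_smul c r (rs P hV t)).symm
    rw [app_rs, ht, rs_one]
    exact (mul_one r).symm)
  rw [hs, Scheme.Modules.Hom.app_smul, app_rs, hf]
  exact (congrArg (r • ·) (map_zero (N.presheaf.map (homOfLE hV).op).hom)).trans (smul_zero r)

/-- Every section is a fraction of morphisms of coherent modules. -/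
theorem exists_rep [CompactSpace X] (N : CC X) (U : X.Opens) (m : Γ(N.obj, U)) :
    ∃ (M : CC X) (a : M ⟶ OC X) (b : M ⟶ N) (t : Γ(M.obj, U)),
      BijOn a.hom U ∧ a.hom.app U t = one₁ U ∧ b.hom.app U t = m := by
  haveI : IsNoetherian X := {}
  let j := U.ι
  haveI : Coh.IsQCoh N.obj := N.property.1
  haveI : Coh.IsQCoh (N.obj.restrict j) := inferInstance
  let P := (Scheme.Modules.pushforward j).obj (N.obj.restrict j)
  have hP : Coh.IsQCoh P := Groth.L16.QcqsPush.isQCoh_push _ j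
  let ρ : N.obj ⟶ P := (Scheme.Modules.restrictAdjunction j).unit.app N.obj
  have hρ : BijOn ρ U := BijOn.of_app fun V hV => by
    haveI : IsIso (homOfLE (j.image_preimage_le V)).op := by
      have e : j ''ᵁ j ⁻¹ᵁ V = V := by
        rw [Scheme.Hom.image_preimage_eq_opensRange_inf, U.opensRange_ι, inf_eq_right]
        exact hV
      exact ⟨(homOfLE e.ge).op, Subsingleton.elim _ _, Subsingleton.elim _ _⟩
    rw [Scheme.Modules.restrictAdjunction_unit_app_app]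
    exact ConcreteCategory.bijective_of_isIso _
  have eU : j ''ᵁ j ⁻¹ᵁ (⊤ : X.Opens) = U := by simp [j]
  let σ : Γ(P, ⊤) := rs N.obj eU.le m
  let h := Groth.L16.homOfSection P σ
  let Mo := pullback h ρ
  let M : CC X := ⟨Mo, isCoh_pullback h ρ (OC X).property N.property hP⟩
  let a : M ⟶ OC X := ObjectProperty.homMk (pullback.fst h ρ)
  let b : M ⟶ N := ObjectProperty.homMk (pullback.snd h ρ)
  have ha : BijOn a.hom U := BijOn.pullback_fst (IsPullback.of_hasPullback h ρ) hρ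
  obtain ⟨t, ht⟩ := (ha.app le_rfl).2 (one₁ U)
  refine ⟨M, a, b, t, ha, ht, (hρ.app le_rfl).1 ?_⟩
  have h1 := congrArg (fun g : Mo ⟶ P => g.app U t) (pullback.condition (f := h) (g := ρ))
  refine (h1.symm.trans ((congrArg (h.app U) ht).trans ?_))
  rw [Groth.L16.homOfSection_app, one_smul, Scheme.Modules.restrictAdjunction_unit_app_app]
  show rs N.obj (j.image_mono (j.preimage_mono le_top)) (rs N.obj eU.le m) = _
  rw [rs_rs]
  rfl

variable (Ψ : CC X ⥤ CC X) (u : Ψ.obj (OC X) ≅ OC X)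

/-- The trivialised image. -/
abbrev tmap {M : CC X} (a : M ⟶ OC X) : Ψ.obj M ⟶ OC X := Ψ.map a ≫ u.hom

/-- Corresponding sections. -/
def Rel (N : CC X) (U : X.Opens) (m : Γ(N.obj, U)) (n : Γ((Ψ.obj N).obj, U)) : Prop :=
  ∃ (M : CC X) (a : M ⟶ OC X) (b : M ⟶ N) (t : Γ(M.obj, U)) (s : Γ((Ψ.obj M).obj, U)),
    BijOn a.hom U ∧ a.hom.app U t = one₁ U ∧ b.hom.app U t = m ∧
      (tmap Ψ u a).hom.app U s = one₁ U ∧ (Ψ.map b).hom.app U s = n

variable {Ψ u}

theorem bij_tmap (hΨ : SuppExact Ψ) {M : CC X} {a : M ⟶ OC X} {U : X.Opens} :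
    BijOn a.hom U ↔ BijOn (tmap Ψ u a).hom U := by
  haveI : IsIso u.hom.hom := inferInstanceAs (IsIso ((ObjectProperty.ι _).map u.hom))
  refine (hΨ.bij_zero a U).1.trans ⟨fun h => h.comp (BijOn.of_isIso u.hom.hom U), fun h => ?_⟩
  have := h.comp (BijOn.of_isIso (inv u.hom.hom) U)
  simpa [tmap] using this

theorem Rel.comp {N N' : CC X} {U : X.Opens} {m : Γ(N.obj, U)} {n : Γ((Ψ.obj N).obj, U)}
    (h : Rel Ψ u N U m n) (g : N ⟶ N') : Rel Ψ u N' U (g.hom.app U m) ((Ψ.map g).hom.app U n) := by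
  obtain ⟨M, a, b, t, s, ha, ht, rfl, hs, rfl⟩ := h
  exact ⟨M, a, b ≫ g, t, s, ha, ht, rfl, hs, by rw [Functor.map_comp]; rfl⟩

theorem Rel.res {N : CC X} {U V : X.Opens} (hV : V ≤ U) {m : Γ(N.obj, U)} {n : Γ((Ψ.obj N).obj, U)}
    (h : Rel Ψ u N U m n) : Rel Ψ u N V (rs N.obj hV m) (rs (Ψ.obj N).obj hV n) := by
  obtain ⟨M, a, b, t, s, ha, ht, rfl, hs, rfl⟩ := h
  exact ⟨M, a, b, rs M.obj hV t, rs (Ψ.obj M).obj hV s, ha.mono hV,
    by rw [app_rs, ht, rs_one], app_rs _ _ _, by rw [app_rs, hs, rs_one], app_rs _ _ _⟩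

variable (hΨ : SuppExact Ψ)
include hΨ

theorem exists_rel [CompactSpace X] (N : CC X) (U : X.Opens) (m : Γ(N.obj, U)) : ∃ n, Rel Ψ u N U m n := by
  obtain ⟨M, a, b, t, ha, ht, hb⟩ := exists_rep N U m
  obtain ⟨s, hs⟩ := (((bij_tmap (u := u) hΨ).1 ha).app le_rfl).2 (one₁ U)
  exact ⟨_, M, a, b, t, s, ha, ht, hb, hs, rfl⟩

theorem exists_rel' [CompactSpace X] [Ψ.Full] (hess : ∀ N : CC X, ∃ M : CC X, Nonempty (Ψ.obj M ≅ N))
    (N : CC X) (U : X.Opens) (n : Γ((Ψ.obj N).obj, U)) : ∃ m, Rel Ψ u N U m n := by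
  obtain ⟨M', a', b', t', ha', ht', hb'⟩ := exists_rep (Ψ.obj N) U n
  obtain ⟨M, ⟨e⟩⟩ := hess M'
  obtain ⟨a, ha⟩ := Ψ.map_surjective (e.hom ≫ a' ≫ u.inv)
  obtain ⟨b, hb⟩ := Ψ.map_surjective (e.hom ≫ b')
  have ea : tmap Ψ u a = e.hom ≫ a' := by simp [tmap, ha]
  haveI : IsIso e.hom.hom := inferInstanceAs (IsIso ((ObjectProperty.ι _).map e.hom))
  have hbij : BijOn a.hom U := (bij_tmap (u := u) hΨ).2 (by rw [ea]; exact (BijOn.of_isIso e.hom.hom U).comp ha')
  obtain ⟨t, ht⟩ := (hbij.app le_rfl).2 (one₁ U)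
  have he : e.hom.hom.app U (e.inv.hom.app U t') = t' :=
    app_congrC (e.inv_hom_id) U _
  refine ⟨b.hom.app U t, M, a, b, t, e.inv.hom.app U t', hbij, ht, rfl, ?_, ?_⟩
  · rw [ea]
    exact (congrArg (a'.hom.app U) he).trans ht'
  · rw [hb]
    exact (congrArg (b'.hom.app U) he).trans hb'

theorem eq_iff_map [Ψ.Additive] {P N : CC X} {U : X.Opens} (c : P ⟶ OC X) (hc : BijOn c.hom U)
    (t : Γ(P.obj, U)) (ht : c.hom.app U t = one₁ U) (s : Γ((Ψ.obj P).obj, U))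
    (hs : (tmap Ψ u c).hom.app U s = one₁ U) (f g : P ⟶ N) :
    f.hom.app U t = g.hom.app U t ↔ (Ψ.map f).hom.app U s = (Ψ.map g).hom.app U s := by
  have h1 : ∀ {P N : CC X} (f g : P ⟶ N) (t : Γ(P.obj, U)),
      (f - g).hom.app U t = f.hom.app U t - g.hom.app U t := fun _ _ _ => rfl
  refine ⟨fun h => ?_, fun h => ?_⟩
  · have z := zeroOn_of_gen c.hom hc t ht (f - g).hom (by rw [h1, h, sub_self])
    have := ((hΨ.bij_zero (f - g) U).2.1 z).app le_rfl s
    rw [Functor.map_sub, h1] at this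
    exact sub_eq_zero.1 this
  · have z := zeroOn_of_gen _ ((bij_tmap (u := u) hΨ).1 hc) s hs (Ψ.map (f - g)).hom
      (by rw [Functor.map_sub, h1, h, sub_self])
    have := ((hΨ.bij_zero (f - g) U).2.2 z).app le_rfl t
    rw [h1] at this
    exact sub_eq_zero.1 this

theorem exists_common {N N' : CC X} {U : X.Opens} {m : Γ(N.obj, U)} {n : Γ((Ψ.obj N).obj, U)}
    {m' : Γ(N'.obj, U)} {n' : Γ((Ψ.obj N').obj, U)} (h : Rel Ψ u N U m n) (h' : Rel Ψ u N' U m' n') :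
    ∃ (P : CC X) (c : P ⟶ OC X) (b : P ⟶ N) (b' : P ⟶ N') (t : Γ(P.obj, U)) (s : Γ((Ψ.obj P).obj, U)),
      BijOn c.hom U ∧ c.hom.app U t = one₁ U ∧ (tmap Ψ u c).hom.app U s = one₁ U ∧
      b.hom.app U t = m ∧ b'.hom.app U t = m' ∧ (Ψ.map b).hom.app U s = n ∧ (Ψ.map b').hom.app U s = n' := by
  obtain ⟨M, a, b, t, s, ha, ht, rfl, hs, rfl⟩ := h
  obtain ⟨M', a', b', t', s', ha', ht', rfl, hs', rfl⟩ := h'
  let P : CC X := ⟨pullback a.hom a'.hom, isCoh_pullback _ _ M.property M'.property (OC X).property.1⟩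
  let p : P ⟶ M := ObjectProperty.homMk (pullback.fst _ _)
  let p' : P ⟶ M' := ObjectProperty.homMk (pullback.snd _ _)
  have hw : p ≫ a = p' ≫ a' := ObjectProperty.hom_ext _ pullback.condition
  have hp : BijOn p.hom U := BijOn.pullback_fst (IsPullback.of_hasPullback _ _) ha'
  obtain ⟨t₀, ht₀⟩ := (hp.app le_rfl).2 t
  have ht₀' : p'.hom.app U t₀ = t' := (ha'.app le_rfl).1 (by
    rw [ht']
    refine Eq.trans ?_ ht
    rw [← ht₀]
    exact app_congrC (hw.symm) U _)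
  obtain ⟨s₀, hs₀⟩ := (((hΨ.bij_zero p U).1.1 hp).app le_rfl).2 s
  have hs₀' : (Ψ.map p').hom.app U s₀ = s' := (((bij_tmap (u := u) hΨ).1 ha').app le_rfl).1 (by
    rw [hs']
    refine Eq.trans ?_ hs
    rw [← hs₀]
    have : Ψ.map p' ≫ tmap Ψ u a' = Ψ.map p ≫ tmap Ψ u a := by
      rw [tmap, tmap, ← Functor.map_comp_assoc, ← Functor.map_comp_assoc, hw]
    exact app_congrC (this) U _)
  refine ⟨P, p ≫ a, p ≫ b, p' ≫ b', t₀, s₀, hp.comp ha, ?_, ?_, ?_, ?_, ?_, ?_⟩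
  · exact (congrArg (a.hom.app U) ht₀).trans ht
  · rw [tmap, Functor.map_comp, Category.assoc]
    exact (congrArg ((tmap Ψ u a).hom.app U) hs₀).trans hs
  · exact congrArg (b.hom.app U) ht₀
  · exact congrArg (b'.hom.app U) ht₀'
  · rw [Functor.map_comp]; exact congrArg ((Ψ.map b).hom.app U) hs₀
  · rw [Functor.map_comp]; exact congrArg ((Ψ.map b').hom.app U) hs₀'

theorem rel_eq_iff [Ψ.Additive] {N : CC X} {U : X.Opens} {m m' : Γ(N.obj, U)}
    {n n' : Γ((Ψ.obj N).obj, U)} (h : Rel Ψ u N U m n) (h' : Rel Ψ u N U m' n') : m = m' ↔ n = n' := by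
  obtain ⟨P, c, b, b', t, s, hc, ht, hs, rfl, rfl, rfl, rfl⟩ := exists_common hΨ h h'
  exact eq_iff_map hΨ c hc t ht s hs b b'

theorem rel_add [Ψ.Additive] {N : CC X} {U : X.Opens} {m m' : Γ(N.obj, U)}
    {n n' : Γ((Ψ.obj N).obj, U)} (h : Rel Ψ u N U m n) (h' : Rel Ψ u N U m' n') :
    Rel Ψ u N U (m + m') (n + n') := by
  obtain ⟨P, c, b, b', t, s, hc, ht, hs, rfl, rfl, rfl, rfl⟩ := exists_common hΨ h h'
  exact ⟨P, c, b + b', t, s, hc, ht, rfl, hs, by rw [Functor.map_add]; rfl⟩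

theorem rel_smul {N : CC X} {U : X.Opens} {m : Γ(N.obj, U)} {n : Γ((Ψ.obj N).obj, U)} {r : Γ(X, U)}
    {q : Γ((Ψ.obj (OC X)).obj, U)} (h : Rel Ψ u N U m n) (hr : Rel Ψ u (OC X) U r q) :
    Rel Ψ u N U (r • m) ((show Γ(X, U) from u.hom.hom.app U q) • n) := by
  obtain ⟨M, a, b, t, s, ha, ht, rfl, hs, rfl⟩ := h
  obtain ⟨R, c, d, tR, sR, hc, htR, rfl, hsR, rfl⟩ := hr
  let P : CC X := ⟨pullback d.hom a.hom, isCoh_pullback _ _ R.property M.property (OC X).property.1⟩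
  let q : P ⟶ R := ObjectProperty.homMk (pullback.fst _ _)
  let p : P ⟶ M := ObjectProperty.homMk (pullback.snd _ _)
  have hw : p ≫ a = q ≫ d := ObjectProperty.hom_ext _ pullback.condition.symm
  have hq : BijOn q.hom U := BijOn.pullback_fst (IsPullback.of_hasPullback _ _) ha
  obtain ⟨t₀, ht₀⟩ := (hq.app le_rfl).2 tR
  let r : Γ(X, U) := d.hom.app U tR
  have hp : p.hom.app U t₀ = r • t := (ha.app le_rfl).1 (by
    rw [Scheme.Modules.Hom.app_smul, ht]
    refine Eq.trans ?_ (mul_one r).symm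
    refine (app_congrC (hw) U _).trans ?_
    exact congrArg (d.hom.app U) ht₀)
  obtain ⟨s₀, hs₀⟩ := (((hΨ.bij_zero q U).1.1 hq).app le_rfl).2 sR
  let ρr : Γ(X, U) := u.hom.hom.app U ((Ψ.map d).hom.app U sR)
  have hp' : (Ψ.map p).hom.app U s₀ = ρr • s := (((bij_tmap (u := u) hΨ).1 ha).app le_rfl).1 (by
    rw [Scheme.Modules.Hom.app_smul, hs]
    refine Eq.trans ?_ (mul_one ρr).symm
    have : Ψ.map p ≫ tmap Ψ u a = Ψ.map q ≫ Ψ.map d ≫ u.hom := by
      rw [tmap, ← Functor.map_comp_assoc, ← Functor.map_comp_assoc, hw]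
    refine (app_congrC (this) U _).trans ?_
    exact congrArg (fun z => u.hom.hom.app U ((Ψ.map d).hom.app U z)) hs₀)
  refine ⟨P, q ≫ c, p ≫ b, t₀, s₀, hq.comp hc, ?_, ?_, ?_, ?_⟩
  · exact (congrArg (c.hom.app U) ht₀).trans htR
  · refine (congrArg (b.hom.app U) hp).trans ?_
    exact Scheme.Modules.Hom.app_smul b.hom r t
  · rw [tmap, Functor.map_comp, Category.assoc]
    exact (congrArg ((tmap Ψ u c).hom.app U) hs₀).trans hsR
  · rw [Functor.map_comp]
    refine (congrArg ((Ψ.map b).hom.app U) hp').trans ?_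
    exact Scheme.Modules.Hom.app_smul _ ρr s

end Groth.L07.PtAuto
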