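import Groth.Agent.L07.PtAuto.Transfer
import Groth.Agent.L16.CohKernel

/-! The exact functor on coherent modules. -/

set_option autoImplicit false
set_option linter.style.haveILetI false
set_option backward.defeqAttrib.useBackward true
set_option backward.isDefEq.respectTransparency false
set_option backward.isDefEq.respectTransparency.types false

universe u
open CategoryTheory CategoryTheory.Limits CategoryTheory.Pretriangulated AlgebraicGeometry
open IsLocalRing
attribute [local instance] HasDerivedCategory.standard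

noncomputable section

namespace Groth.L07.PtAuto

open Groth.L00.Sky Groth.L07.BvdB.PointSky Groth.L07.BvdB.PointSelf

/-- The coherent modules. -/
abbrev CC (X : Scheme.{u}) := ObjectProperty.FullSubcategory fun M : X.Modules => Coh.IsCoh M

variable {X : Scheme.{u}}

local notation "sg" => DerivedCategory.singleFunctor X.Modules
local notation "HH" => DerivedCategory.homologyFunctor X.Modules
local notation "cH" => DerivedCategory.singleFunctorCompHomologyFunctorIso X.Modules 0

variable [IsLocallyNoetherian X] [CompactSpace X] (hreg : Models.IsRegularScheme X)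
  [(SGA6.perfP X).IsTriangulated]

/-- Coherent modules as perfect objects. -/
def toP : CC X ⥤ PP X :=
  ObjectProperty.lift (SGA6.perfP X) (ObjectProperty.ι _ ⋙ sg 0) fun M => isPerfect_inD hreg M.property

variable (F : PP X ⥤ PP X) [F.Additive] [F.CommShift ℤ] [F.Full] [F.Faithful]
  (θ : ∀ (x : X) (hx : IsClosed ({x} : Set X)) (T : ModuleCat.{u} (X.presheaf.stalk x))
    (hT : IsFiniteLength (X.presheaf.stalk x) T), skyP hreg hx T hT ≅ F.obj (skyP hreg hx T hT))

include θ in
theorem exists_deg0 (M : CC X) :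
    ∃ N : X.Modules, Coh.IsCoh N ∧ Nonempty ((F.obj ((toP hreg).obj M)).obj ≅ DCoh.inD X N) := by
  have hp := (F.obj ((toP hreg).obj M)).property
  obtain ⟨p, q, hp', hq'⟩ := Groth.L29.CohSupp.exists_bounds_of_perfect hp
  exact exists_iso_inD_of_good (Groth.L29.CohSupp.isCohD_of_perfect hp)
    ((good_obj_iff hreg F θ _).2 (good_inD M.obj M.property)) p q

/-- The composite into the derived category. -/
abbrev GD : CC X ⥤ DCoh.D X := toP hreg ⋙ F ⋙ ObjectProperty.ι (SGA6.perfP X)

omit [CompactSpace X] [(SGA6.perfP X).IsTriangulated] [F.Additive] [F.CommShift ℤ] [F.Full] [F.Faithful] in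
theorem isCoh_H0 (M : CC X) : Coh.IsCoh ((HH 0).obj ((GD hreg F).obj M)) :=
  Groth.L29.CohSupp.isCohD_of_perfect (F.obj ((toP hreg).obj M)).property 0

/-- The functor on coherent modules. -/
def cohFun : CC X ⥤ CC X :=
  ObjectProperty.lift _ (GD hreg F ⋙ HH 0) (isCoh_H0 hreg F)

/-- Degree zero objects are their cohomology. -/
def deg0Iso (M : CC X) : (GD hreg F).obj M ≅ (sg 0).obj ((HH 0).obj ((GD hreg F).obj M)) :=
  let e := (exists_deg0 hreg F θ M).choose_spec.2.some
  e ≪≫ (sg 0).mapIso (((HH 0).mapIso e ≪≫ (cH).app _).symm)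

theorem H_deg0Iso (M : CC X) :
    (HH 0).map (deg0Iso hreg F θ M).hom ≫ (cH).hom.app _ = 𝟙 _ := by
  let e := (exists_deg0 hreg F θ M).choose_spec.2.some
  show (HH 0).map (e.hom ≫ (sg 0).map ((cH).inv.app _ ≫ (HH 0).map e.inv)) ≫ _ = _
  rw [Functor.map_comp, Category.assoc]
  erw [(cH).hom.naturality]
  show (HH 0).map e.hom ≫ (cH).hom.app _ ≫ (cH).inv.app _ ≫ (HH 0).map e.inv = _
  rw [Iso.hom_inv_id_app_assoc, ← Functor.map_comp, e.hom_inv_id, CategoryTheory.Functor.map_id]
  rfl

/-- The functor on coherent modules computes the functor. -/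
def cohFunIso : GD hreg F ≅ cohFun hreg F ⋙ ObjectProperty.ι _ ⋙ sg 0 :=
  NatIso.ofComponents (deg0Iso hreg F θ) fun {M M'} h => by
    show (GD hreg F).map h ≫ (deg0Iso hreg F θ M').hom =
      (deg0Iso hreg F θ M).hom ≫ (sg 0).map ((HH 0).map ((GD hreg F).map h))
    rw [← cancel_epi (deg0Iso hreg F θ M).inv, Iso.inv_hom_id_assoc]
    obtain ⟨g, hg⟩ := (sg 0).map_surjective
      ((deg0Iso hreg F θ M).inv ≫ (GD hreg F).map h ≫ (deg0Iso hreg F θ M').hom)
    rw [← hg]
    congr 1
    have h1 := congrArg (fun t => (HH 0).map t ≫ (cH).hom.app _) hg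
    simp only [Functor.map_comp, Category.assoc] at h1
    erw [(cH).hom.naturality g, H_deg0Iso hreg F θ M', Category.comp_id] at h1
    have h2 : (HH 0).map (deg0Iso hreg F θ M).inv = (cH).hom.app _ := by
      rw [← cancel_epi ((HH 0).map (deg0Iso hreg F θ M).hom), ← Functor.map_comp, Iso.hom_inv_id,
        CategoryTheory.Functor.map_id]
      exact (H_deg0Iso hreg F θ M).symm
    rw [h2] at h1
    exact (cancel_epi _).1 h1

include θ

theorem cohFun_map_surjective (M N : CC X) :
    Function.Surjective (fun g : M ⟶ N => (cohFun hreg F).map g) := by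
  intro g
  let a := deg0Iso hreg F θ
  obtain ⟨w, hw⟩ := F.map_surjective (X := (toP hreg).obj M) (Y := (toP hreg).obj N)
    (ObjectProperty.homMk ((a M).hom ≫ (sg 0).map g.hom ≫ (a N).inv))
  obtain ⟨g₀, hg₀⟩ := (sg 0).map_surjective (w.hom : (sg 0).obj M.obj ⟶ (sg 0).obj N.obj)
  refine ⟨ObjectProperty.homMk g₀, ObjectProperty.hom_ext _ ((sg 0).map_injective ?_)⟩
  have h := (cohFunIso hreg F θ).hom.naturality (ObjectProperty.homMk g₀ : M ⟶ N)
  have e : (GD hreg F).map (ObjectProperty.homMk g₀ : M ⟶ N) = (a M).hom ≫ (sg 0).map g.hom ≫ (a N).inv := by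
    show (F.map ((toP hreg).map (ObjectProperty.homMk g₀ : M ⟶ N))).hom = _
    rw [show (toP hreg).map (ObjectProperty.homMk g₀ : M ⟶ N) = w from ObjectProperty.hom_ext _ hg₀, hw]
    rfl
  rw [e] at h
  refine (cancel_epi (a M).hom).1 (h.symm.trans ?_)
  show ((a M).hom ≫ (sg 0).map g.hom ≫ (a N).inv) ≫ (a N).hom = _
  simp

theorem cohFun_map_injective (M N : CC X) :
    Function.Injective (fun g : M ⟶ N => (cohFun hreg F).map g) := fun g g' h => by
  refine ObjectProperty.hom_ext _ ((sg 0).map_injective ?_)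
  have h1 := (cohFunIso hreg F θ).hom.naturality g
  have h2 := (cohFunIso hreg F θ).hom.naturality g'
  dsimp only at h
  have hG : (GD hreg F).map g = (GD hreg F).map g' :=
    (cancel_mono ((cohFunIso hreg F θ).hom.app N)).1 (h1.trans ((congrArg (fun t => _ ≫ (ObjectProperty.ι _ ⋙ sg 0).map t) h).trans h2.symm))
  exact congrArg (SGA6.perfP X).ι.map (F.map_injective ((SGA6.perfP X).ι.map_injective hG))

theorem cohFun_full : (cohFun hreg F).Full := ⟨fun {M N} => cohFun_map_surjective hreg F θ M N⟩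

theorem cohFun_faithful : (cohFun hreg F).Faithful := ⟨fun {M N} _ _ h => cohFun_map_injective hreg F θ M N h⟩

theorem cohFun_essSurj [F.EssSurj] (N : CC X) : ∃ M : CC X, Nonempty ((cohFun hreg F).obj M ≅ N) := by
  let P := F.objPreimage ((toP hreg).obj N)
  let e : (F.obj P).obj ≅ DCoh.inD X N.obj :=
    (SGA6.perfP X).ι.mapIso (F.objObjPreimageIso ((toP hreg).obj N))
  have hP : Good P.obj := (good_obj_iff hreg F θ P).1 ((good_inD N.obj N.property).of_iso e.symm)
  obtain ⟨p, q, hp', hq'⟩ := Groth.L29.CohSupp.exists_bounds_of_perfect P.property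
  obtain ⟨M₀, hM₀, ⟨e₀⟩⟩ := exists_iso_inD_of_good (Groth.L29.CohSupp.isCohD_of_perfect P.property) hP p q
  let M : CC X := ⟨M₀, hM₀⟩
  refine ⟨M, ⟨ObjectProperty.isoMk _ ((HH 0).mapIso ?_ ≪≫ (cH).app N.obj)⟩⟩
  exact (F ⋙ (SGA6.perfP X).ι).mapIso (ObjectProperty.isoMk _ e₀.symm : (toP hreg).obj M ≅ P) ≪≫ e

theorem cohFun_shortExact [F.IsTriangulated] {A B C : CC X} (f : A ⟶ B) (g : B ⟶ C) (w : f.hom ≫ g.hom = 0)
    (hS : (ShortComplex.mk f.hom g.hom w).ShortExact) :
    ∃ w', (ShortComplex.mk ((cohFun hreg F).map f).hom ((cohFun hreg F).map g).hom w').ShortExact := by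
  obtain ⟨c, hT⟩ := exists_triangle (X := X) hS ((toP hreg).obj A).property ((toP hreg).obj B).property
    ((toP hreg).obj C).property
  have hT' := (SGA6.perfP X).ι.map_distinguished _ (F.map_distinguished _ hT)
  have w' : ((cohFun hreg F).map f).hom ≫ ((cohFun hreg F).map g).hom = 0 := by
    show (HH 0).map ((GD hreg F).map f) ≫ (HH 0).map ((GD hreg F).map g) = 0
    rw [← Functor.map_comp]
    have h0 := comp_distTriang_mor_zero₁₂ _ hT'
    change (GD hreg F).map f ≫ (GD hreg F).map g = 0 at h0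
    rw [h0, Functor.map_zero]
  have hz : ∀ (M : CC X) (i : ℤ), i ≠ 0 → IsZero ((HH i).obj ((GD hreg F).obj M)) := fun M i hi => by
    refine IsZero.of_iso ?_ ((HH i).mapIso (deg0Iso hreg F θ M))
    rcases lt_or_gt_of_ne hi with h | h
    · exact DerivedCategory.isZero_of_isGE _ 0 i h
    · exact DerivedCategory.isZero_of_isLE _ 0 i h
  refine ⟨w', { exact := DerivedCategory.HomologySequence.exact₂ _ hT' 0, mono_f := ?_, epi_g := ?_ }⟩
  · exact (DerivedCategory.HomologySequence.exact₁ _ hT' (-1) 0 (by omega)).mono_g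
      ((hz C (-1) (by omega)).eq_of_src _ _)
  · exact (DerivedCategory.HomologySequence.exact₃ _ hT' 0 1 (by omega)).epi_f
      ((hz A 1 (by omega)).eq_of_tgt _ _)

theorem cohFun_obj_iso {x : X} (hx : IsClosed ({x} : Set X)) (T : ModuleCat.{u} (X.presheaf.stalk x))
    (hT : IsFiniteLength (X.presheaf.stalk x) T) (M : CC X) (e : M.obj ≅ (skyF x).obj T) :
    Nonempty (((cohFun hreg F).obj M).obj ≅ M.obj) := by
  let a : (toP hreg).obj M ≅ skyP hreg hx T hT := ObjectProperty.isoMk _ ((sg 0).mapIso e)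
  exact ⟨(HH 0).mapIso ((SGA6.perfP X).ι.mapIso (F.mapIso a ≪≫ (θ x hx T hT).symm)) ≪≫
    (cH).app _ ≪≫ e.symm⟩

variable {k : Type u} [Field k] [X.Over (Spec (CommRingCat.of k))] [F.Linear k]

theorem cohFun_smul (M : CC X) (c : k) :
    ((cohFun hreg F).map (c • 𝟙 M)).hom = c • 𝟙 ((cohFun hreg F).obj M).obj := by
  apply (sg 0).map_injective
  have h := (cohFunIso hreg F θ).hom.naturality (c • 𝟙 M)
  have hG : (GD hreg F).map (c • 𝟙 M) = c • 𝟙 ((GD hreg F).obj M) := by
    show (F.map ((toP hreg).map (c • 𝟙 M))).hom = _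
    have h0 : (toP hreg).map (c • 𝟙 M) = c • 𝟙 ((toP hreg).obj M) := ObjectProperty.hom_ext _ (by
      show (sg 0).map (c • 𝟙 M.obj) = c • 𝟙 ((sg 0).obj M.obj)
      rw [Functor.map_smul, CategoryTheory.Functor.map_id])
    rw [h0, Functor.map_smul, CategoryTheory.Functor.map_id]
    rfl
  rw [hG] at h
  refine (cancel_epi ((cohFunIso hreg F θ).hom.app M)).1 (h.symm.trans ?_)
  rw [Linear.smul_comp, Category.id_comp, Functor.map_smul, CategoryTheory.Functor.map_id, Linear.comp_smul]
  erw [Category.comp_id]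

end Groth.L07.PtAuto
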