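import Groth.Agent.L10.FMBC.Comp
import Groth.Agent.L10.FMBC.ModKernel
import Groth.Agent.L10.FMBC.Equiv
import Groth.Agent.Lead.TwistEquiv
import Groth.Agent.Lead.PCProjBasic
import Groth.Agent.L29.DCoh.Restrict
import Groth.Agent.L29.DCoh.PCQCoh

/-! A Fourier-Mukai functor composed with a twisted pullback by an automorphism of the source. -/

set_option autoImplicit false
set_option linter.style.haveILetI false
set_option backward.defeqAttrib.useBackward true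
set_option backward.isDefEq.respectTransparency false
set_option backward.isDefEq.respectTransparency.types false

universe u
open CategoryTheory CategoryTheory.Limits AlgebraicGeometry
attribute [local instance] HasDerivedCategory.standard

noncomputable section

namespace Groth.L07.PtAuto

open Groth.L29.BC Groth.L29.DC

theorem nonempty_kernel_twist {X Y S : Scheme.{u}} {sX : X ⟶ S} {sY : Y ⟶ S} (f : X ≅ X)
    (hf : f.hom ≫ sX = sX) [QuasiCompact sX] [QuasiSeparated sX] [Flat sX]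
    [DCoh.HasLpull (pullback.fst sX sY)] [DCoh.HasRpush (pullback.snd sX sY)]
    [∀ K : CochainComplex (pullback sX sY).Modules ℤ, DCoh.HasLTensorCx K]
    (K₀ : CochainComplex (pullback sX sY).Modules ℤ) (hK₀ : DCoh.IsPerfect (DCoh.toD _ K₀))
    {N : X.Modules} (hN : PicF.IsInvertible N) (hNf : FlatMod.IsFinLocFree N) [DCoh.HasLpull f.inv] :
    ∃ K : CochainComplex (pullback sX sY).Modules ℤ, DCoh.IsPerfect (DCoh.toD _ K) ∧
      Nonempty (ObjectProperty.ι (DCoh.IsQCohD (X := X)) ⋙ (Groth.Lead.TwistEquiv.T N hNf ⋙ DCoh.Lpull f.inv) ⋙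
          (DCoh.Lpull (pullback.fst sX sY) ⋙ DCoh.LTensorCx K₀ ⋙ DCoh.Rpush (pullback.snd sX sY)) ≅
        ObjectProperty.ι (DCoh.IsQCohD (X := X)) ⋙
          (DCoh.Lpull (pullback.fst sX sY) ⋙ DCoh.LTensorCx K ⋙ DCoh.Rpush (pullback.snd sX sY))) := by
  haveI := fun {A B : Scheme.{u}} (k : A ⟶ B) => Groth.L00.KFlat.hasLpull k
  haveI : ∀ G : (pullback sX sY).Modules, DCoh.HasLTensorMod G :=
    fun G => Groth.L00.DerivedApi.hasLTensorMod G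
  haveI : DCoh.HasLTensorMod N := Groth.L00.DerivedApi.hasLTensorMod N
  let p1 := pullback.fst sX sY
  let p2 := pullback.snd sX sY
  let φ : pullback sX sY ⟶ pullback sX sY :=
    pullback.map sX sY sX sY f.hom (𝟙 Y) (𝟙 S) (by rw [hf, Category.comp_id]) (by simp)
  have w1 : φ ≫ p1 = p1 ≫ f.hom := pullback.lift_fst _ _ _
  have w2 : φ ≫ p2 = p2 ≫ 𝟙 Y := pullback.lift_snd _ _ _
  haveI : IsIso φ := inferInstanceAs (IsIso (pullback.map sX sY sX sY f.hom (𝟙 Y) (𝟙 S) _ _))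
  have hc : IsPullback φ p2 p2 (𝟙 Y) := IsPullback.of_horiz_isIso ⟨w2⟩
  haveI : QuasiCompact p2 := MorphismProperty.pullback_snd _ _ inferInstance
  haveI : QuasiSeparated p2 := MorphismProperty.pullback_snd _ _ inferInstance
  obtain ⟨P, q, hP, -, hq, -⟩ :=
    Groth.L00.KFlat.exists_resolution (DerivedCategory.Q.objPreimage ((DCoh.Lpull φ).obj (DCoh.toD _ K₀)))
  haveI := (DerivedCategory.isIso_Q_map_iff_quasiIso _ q).2 hq
  let eP : DCoh.toD _ P ≅ (DCoh.Lpull φ).obj (DCoh.toD _ K₀) :=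
    asIso (DerivedCategory.Q.map q) ≪≫ DerivedCategory.Q.objObjPreimageIso _
  have hPp : DCoh.IsPerfect (DCoh.toD _ P) := isPerfect_of_iso eP.symm (isPerfect_Lpull φ hK₀)
  obtain ⟨bc⟩ := Groth.L10.FMBC.nonempty_pull_kernel (π := f.hom) (p₁ := p1) (p₂ := p2) (q₁ := p1) (q₂ := p2)
    (h := φ) (ϖ := 𝟙 Y) w1.symm hc (Or.inr inferInstance) K₀ (PCQCoh.isQCohD_of_perfect hK₀) P ⟨eP⟩
  obtain ⟨i1⟩ := Groth.L10.FMDiag.nonempty_Lpull_id (X := Y)
  obtain ⟨i3⟩ := Groth.L10.FMDiag.nonempty_Lpull_id (X := X)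
  obtain ⟨i4⟩ : Nonempty (DCoh.Lpull f.inv ⋙ DCoh.Lpull f.hom ≅ 𝟭 (DCoh.D X)) :=
    (Groth.L10.FMBC.nonempty_lpull_comp' f.hom f.inv f.hom_inv_id).map fun j => j ≪≫ i3
  obtain ⟨t⟩ := Groth.L10.FMBC.nonempty_lpull_mod p1 hN
  let N' := (Scheme.Modules.pullback p1).obj N
  have hN' : PicF.IsInvertible N' := Groth.L18.Ample.isInvertible_pullback p1 hN
  let S₀ := Groth.Lead.LTMod.S0 N'
  have hS₀ : DCoh.IsKFlat S₀ := Groth.L10.FMBC.isKFlat_S0 hN'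
  obtain ⟨a⟩ := Groth.L10.FMBC.nonempty_assocD S₀ P hS₀ hP
  let K := (DCoh.tensorCx.obj S₀).obj P
  refine ⟨K, ?_, ⟨?_⟩⟩
  · refine isPerfect_of_iso ((Assoc.allIso P hP).app S₀) (Groth.L10.FMBC.isPerfect_LT P hPp ?_)
    exact isPerfect_of_iso ((DerivedCategory.singleFunctorIsoCompQ _ 0).app N')
      (Groth.Lead.PCProj.isPerfect_inD (Groth.L16.Existence.isFinLocFree_of_isInvertible hN'))
  · let ι := ObjectProperty.ι (DCoh.IsQCohD (X := X))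
    let T := Groth.Lead.TwistEquiv.T N hNf
    let Φ₀ := DCoh.Lpull p1 ⋙ DCoh.LTensorCx K₀ ⋙ DCoh.Rpush p2
    let ΦP := DCoh.Lpull p1 ⋙ DCoh.LTensorCx P ⋙ DCoh.Rpush p2
    let Q := ObjectProperty.lift (DCoh.IsQCohD (X := X)) (ι ⋙ T ⋙ DCoh.Lpull f.inv) fun E =>
      Groth.L29.DC.isQCohD_Lpull f.inv (isQCohD_of_iso ((Groth.Lead.TwistEquiv.ltIso N hNf).app _)
        (Groth.L10.FMBC.isQCohD_ltm hN E.property))
    let e1 : ι ⋙ (T ⋙ DCoh.Lpull f.inv) ⋙ Φ₀ ≅ ι ⋙ (T ⋙ DCoh.Lpull f.inv) ⋙ DCoh.Lpull f.hom ⋙ ΦP :=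
      (Functor.isoWhiskerLeft (Q ⋙ ι) (Functor.isoWhiskerLeft Φ₀ i1 ≪≫ Functor.rightUnitor _)).symm ≪≫
        Functor.isoWhiskerLeft Q bc.symm
    let e2 : ι ⋙ (T ⋙ DCoh.Lpull f.inv) ⋙ DCoh.Lpull f.hom ⋙ ΦP ≅ ι ⋙ T ⋙ ΦP :=
      Functor.isoWhiskerLeft (ι ⋙ T) ((Functor.associator _ _ _).symm ≪≫ Functor.isoWhiskerRight i4 ΦP ≪≫
        Functor.leftUnitor _)
    let e3 : T ⋙ DCoh.Lpull p1 ≅ DCoh.Lpull p1 ⋙ DCoh.LTensorCx S₀ :=
      Functor.isoWhiskerRight (Groth.Lead.TwistEquiv.ltIso N hNf).symm _ ≪≫ t ≪≫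
        Functor.isoWhiskerLeft _ (Groth.Lead.LTMod.iso N')
    let e4 : T ⋙ ΦP ≅ DCoh.Lpull p1 ⋙ DCoh.LTensorCx K ⋙ DCoh.Rpush p2 :=
      (Functor.associator _ _ _).symm ≪≫ Functor.isoWhiskerRight e3 _ ≪≫ Functor.associator _ _ _ ≪≫
        Functor.isoWhiskerLeft _ ((Functor.associator _ _ _).symm ≪≫ Functor.isoWhiskerRight a _)
    exact e1 ≪≫ e2 ≪≫ Functor.isoWhiskerLeft ι e4

end Groth.L07.PtAuto
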