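import Groth.Agent.L07.PtAuto.Functor
import Groth.Agent.L09.IndLan.QCohFp
import Groth.Agent.L29.Sib.Comm
import Groth.Agent.S1005
import Groth.Agent.S1049

/-! Siblings: exact functors on perfect objects agreeing on coherent modules agree on objects. -/

set_option autoImplicit false
set_option linter.style.haveILetI false
set_option backward.defeqAttrib.useBackward true
set_option backward.isDefEq.respectTransparency false
set_option backward.isDefEq.respectTransparency.types false

universe u v w
open CategoryTheory CategoryTheory.Limits CategoryTheory.Pretriangulated AlgebraicGeometry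
attribute [local instance] HasDerivedCategory.standard

noncomputable section

namespace Groth.L07.PtAuto

open Groth.L09.IndLan

variable {X : Scheme.{u}}

local notation "ιC" => ObjectProperty.ι (fun M : X.Modules => Coh.IsCoh M)

variable [IsNoetherian X]

instance preservesFiniteLimits_ιC : PreservesFiniteLimits ιC :=
  haveI := fun {A B : CC X} (f : A ⟶ B) => ObjectProperty.preservesKernels_ι (fun M : X.Modules => Coh.IsCoh M) f
  Functor.preservesFiniteLimits_of_preservesKernels _

instance preservesFiniteColimits_ιC : PreservesFiniteColimits ιC :=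
  haveI := fun {A B : CC X} (f : A ⟶ B) => ObjectProperty.preservesCokernels_ι (fun M : X.Modules => Coh.IsCoh M) f
  haveI : HasFiniteBiproducts (CC X) := HasFiniteBiproducts.of_hasFiniteProducts
  Functor.preservesFiniteColimits_of_preservesCokernels _

/-- Cohomology of a realisation. -/
def homIso (K : DerivedCategory (CC X)) (i : ℤ) : (ιC).obj ((DerivedCategory.homologyFunctor (CC X) i).obj K) ≅
    (DerivedCategory.homologyFunctor X.Modules i).obj ((ιC).mapDerivedCategory.obj K) :=
  let M₀ := DerivedCategory.Q.objPreimage K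
  let e₀ : DerivedCategory.Q.obj M₀ ≅ K := DerivedCategory.Q.objObjPreimageIso K
  (ιC).mapIso ((DerivedCategory.homologyFunctor _ i).mapIso e₀.symm ≪≫
        (DerivedCategory.homologyFunctorFactors _ i).app M₀) ≪≫ ((M₀.sc i).mapHomologyIso ιC).symm ≪≫
      ((DerivedCategory.homologyFunctorFactors X.Modules i).app
        (((ιC).mapHomologicalComplex (ComplexShape.up ℤ)).obj M₀)).symm ≪≫
      (DerivedCategory.homologyFunctor X.Modules i).mapIso (((ιC).mapDerivedCategoryFactors.app M₀).symm ≪≫
        (ιC).mapDerivedCategory.mapIso e₀)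

theorem isCohD_map (K : DerivedCategory (CC X)) : DCoh.IsCohD ((ιC).mapDerivedCategory.obj K) := fun i =>
  Groth.L16.CohSupport.isCoh_of_iso (homIso K i) (((DerivedCategory.homologyFunctor (CC X) i).obj K).property)

variable (hreg : Models.IsRegularScheme X)

include hreg in
theorem isPerfect_map (K : DerivedCategory.Bounded (CC X)) :
    DCoh.IsPerfect ((DerivedCategory.Bounded.ι ⋙ (ιC).mapDerivedCategory).obj K) := by
  obtain ⟨b, a, -, hb, ha⟩ := Groth.L29.Sib.exists_amp K
  haveI : ((DerivedCategory.Bounded.ι ⋙ (ιC).mapDerivedCategory).obj K).IsGE b := by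
    rw [DerivedCategory.isGE_iff]
    intro i hi
    exact ((ιC).map_isZero ((DerivedCategory.isGE_iff _ _).1 hb i hi)).of_iso
      (homIso _ i).symm
  haveI : ((DerivedCategory.Bounded.ι ⋙ (ιC).mapDerivedCategory).obj K).IsLE a := by
    rw [DerivedCategory.isLE_iff]
    intro i hi
    exact ((ιC).map_isZero ((DerivedCategory.isLE_iff _ _).1 ha i hi)).of_iso
      (homIso _ i).symm
  exact Groth.Agent.S1005.result X hreg _ b a (isCohD_map _)

/-- The realisation functor. -/
def real : DerivedCategory.Bounded (CC X) ⥤ PP X :=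
  ObjectProperty.lift (SGA6.perfP X) (DerivedCategory.Bounded.ι ⋙ (ιC).mapDerivedCategory) (isPerfect_map hreg)

variable [(SGA6.perfP X).IsTriangulated]

instance : (real hreg).CommShift ℤ :=
  inferInstanceAs ((ObjectProperty.lift (SGA6.perfP X) _ _).CommShift ℤ)

instance : (real hreg).IsTriangulated :=
  inferInstanceAs (ObjectProperty.lift (SGA6.perfP X) _ _).IsTriangulated

omit [(SGA6.perfP X).IsTriangulated] in
theorem real_bij (M N : DerivedCategory.Bounded (CC X)) :
    Function.Bijective (fun φ : M ⟶ N => (real hreg).map φ) := by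
  obtain ⟨b, a, -, hb, ha⟩ := Groth.L29.Sib.exists_amp M
  obtain ⟨b', a', -, hb', ha'⟩ := Groth.L29.Sib.exists_amp N
  haveI := hb; haveI := ha; haveI := hb'; haveI := ha'
  have h := (Groth.Agent.S1049.result X).1 (DerivedCategory.Bounded.ι.obj M) (DerivedCategory.Bounded.ι.obj N)
    (min b b') (max a a')
    (DerivedCategory.TStructure.t.isGE_of_ge _ _ b (min_le_left _ _))
    (DerivedCategory.TStructure.t.isLE_of_le _ a _ (le_max_left _ _))
    (DerivedCategory.TStructure.t.isGE_of_ge _ _ b' (min_le_right _ _))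
    (DerivedCategory.TStructure.t.isLE_of_le _ a' _ (le_max_right _ _))
  refine ⟨fun f g hfg => DerivedCategory.Bounded.ι.map_injective (h.1 ?_), fun ψ => ?_⟩
  · exact congrArg (·.hom) hfg
  · obtain ⟨φ, hφ⟩ := h.2 ψ.hom
    obtain ⟨φ', rfl⟩ := DerivedCategory.Bounded.ι.map_surjective φ
    exact ⟨φ', ObjectProperty.hom_ext _ hφ⟩

instance : (real hreg).Full := ⟨fun {M N} => (real_bij hreg M N).2⟩

instance : (real hreg).Faithful := ⟨fun {M N} _ _ h => (real_bij hreg M N).1 h⟩

omit [(SGA6.perfP X).IsTriangulated] in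
theorem exists_real (K : PP X) : ∃ M, Nonempty ((real hreg).obj M ≅ K) := by
  obtain ⟨a, b, ha, hb⟩ := Groth.L29.CohSupp.exists_bounds_of_perfect K.property
  obtain ⟨M, hM, hM', ⟨e⟩⟩ := (Groth.Agent.S1049.result X).2 K.obj a b ha hb
    (Groth.L29.CohSupp.isCohD_of_perfect K.property)
  exact ⟨⟨M, ⟨a, hM⟩, ⟨b, hM'⟩⟩, ⟨ObjectProperty.isoMk _ e⟩⟩

/-- Realisation on modules. -/
def realSingle : DEquiv.singleB (CC X) ⋙ real hreg ≅ toP hreg :=
  NatIso.ofComponents (fun M => ObjectProperty.isoMk _ (((ιC).mapDerivedCategorySingleFunctor 0).app M))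
    fun {M N} g => ObjectProperty.hom_ext _ (((ιC).mapDerivedCategorySingleFunctor 0).hom.naturality g)

/-- Siblings. -/
theorem nonempty_obj_iso {D : Type v} [Category.{w} D] [Preadditive D] [HasZeroObject D] [HasShift D ℤ]
    [∀ n : ℤ, (shiftFunctor D n).Additive] [Pretriangulated D] [IsTriangulated D]
    (F F' : PP X ⥤ D) [F.CommShift ℤ] [F.IsTriangulated] [F'.CommShift ℤ] [F'.IsTriangulated]
    [F.Full] [F.Faithful] (e : toP hreg ⋙ F ≅ toP hreg ⋙ F') (K : PP X) :
    Nonempty (F.obj K ≅ F'.obj K) := by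
  obtain ⟨M, ⟨eM⟩⟩ := exists_real hreg K
  let η : DEquiv.singleB (CC X) ⋙ real hreg ⋙ F ≅ DEquiv.singleB (CC X) ⋙ real hreg ⋙ F' :=
    (Functor.associator _ _ _).symm ≪≫ Functor.isoWhiskerRight (realSingle hreg) F ≪≫ e ≪≫
      Functor.isoWhiskerRight (realSingle hreg).symm F' ≪≫ Functor.associator _ _ _
  obtain ⟨b, a, hba, hK⟩ := Groth.L29.Sib.exists_amp M
  obtain ⟨Z, i, hi⟩ := Groth.L29.Sib.exists_eff' hK hba
  obtain ⟨φ, -⟩ := Groth.L29.Sib.exists_iso η (Groth.L29.Sib.Van.of_full η) i hba hi
  exact ⟨(F.mapIso eM).symm ≪≫ φ ≪≫ F'.mapIso eM⟩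

end Groth.L07.PtAuto
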