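import Groth.Agent.L07.PtAuto.Main
import Groth.Agent.L07.PtAuto.Sib
import Groth.Agent.L07.PtAuto.KernelTwist
import Groth.Agent.L07.FMDiag.Derived
import Groth.Agent.L10.FMDiag.Basic

/-! Fully faithful functors agreeing with a Fourier-Mukai functor on points. -/

set_option autoImplicit false
set_option linter.style.haveILetI false
set_option backward.defeqAttrib.useBackward true
set_option backward.isDefEq.respectTransparency false
set_option backward.isDefEq.respectTransparency.types false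

universe u
open CategoryTheory CategoryTheory.Limits CategoryTheory.Pretriangulated AlgebraicGeometry
attribute [local instance] HasDerivedCategory.standard

noncomputable section

namespace Groth.L07.PtAuto

open Groth.L29.BC Groth.L29.DC

variable {k : Type u} [CommRing k] {X Y : Scheme.{u}} [X.Over (Spec (CommRingCat.of k))] [Y.Over (Spec (CommRingCat.of k))]
  [(SGA6.perfP X).IsTriangulated] [(SGA6.perfP Y).IsTriangulated]

/-- A functor with values in the essential image of a fully faithful functor lifts. -/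
theorem exists_lift_through (F G : PP X ⥤ PP Y) [F.Additive] [F.Linear k] [F.CommShift ℤ] [F.IsTriangulated]
    [G.Additive] [G.Linear k] [G.CommShift ℤ] [G.IsTriangulated] [F.Full] [F.Faithful]
    (hmem : ∀ M, F.essImage (G.obj M)) :
    ∃ (H : PP X ⥤ PP X) (_ : H.Additive) (_ : H.Linear k) (_ : H.CommShift ℤ) (_ : H.IsTriangulated),
      Nonempty (H ⋙ F ≅ G) := by
  haveI : F.toEssImage.IsEquivalence := {}
  let E := F.toEssImage.asEquivalence
  let H : PP X ⥤ PP X := F.essImage.lift G hmem ⋙ E.inverse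
  let e : H ⋙ F ≅ G := Functor.isoWhiskerLeft H F.toEssImageCompι.symm ≪≫
    Functor.isoWhiskerLeft (F.essImage.lift G hmem) ((Functor.associator _ _ _).symm ≪≫
      Functor.isoWhiskerRight E.counitIso F.essImage.ι ≪≫ Functor.leftUnitor _) ≪≫
    F.essImage.liftCompιIso G hmem
  have hmap : ∀ {A B : PP X} (g : A ⟶ B), F.map (H.map g) = e.hom.app A ≫ G.map g ≫ e.inv.app B := fun {A B} g => by
    rw [← Category.assoc, ← e.hom.naturality g, Category.assoc, Iso.hom_inv_id_app, Category.comp_id]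
    rfl
  haveI hA : H.Additive := ⟨fun {A B f g} => F.map_injective (by
    simp only [hmap, F.map_add, G.map_add, Preadditive.add_comp, Preadditive.comp_add])⟩
  haveI hL : H.Linear k := ⟨fun {A B} f r => F.map_injective (by
    simp only [hmap, F.map_smul, G.map_smul, Linear.smul_comp, Linear.comp_smul])⟩
  letI hC : H.CommShift ℤ := Functor.CommShift.ofComp e ℤ
  haveI : NatTrans.CommShift e.hom ℤ := Functor.CommShift.ofComp_compatibility e ℤ
  exact ⟨H, hA, hL, hC, (Functor.isTriangulated_iff_comp_right e).2 inferInstance, ⟨e⟩⟩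

open Groth.L00.Tensor in
theorem exists_sibling {k : Type u} [Field k] {X Y : Scheme.{u}} [X.Over (Spec (CommRingCat.of k))]
    [Y.Over (Spec (CommRingCat.of k))] [(SGA6.perfP X).IsTriangulated] [(SGA6.perfP Y).IsTriangulated]
    [IsProper (X ↘ Spec (CommRingCat.of k))] (hreg : Models.IsRegularScheme X)
    (F G : PP X ⥤ PP Y) [F.Additive] [F.Linear k] [F.CommShift ℤ] [F.IsTriangulated]
    [G.Additive] [G.Linear k] [G.CommShift ℤ] [G.IsTriangulated] [F.Full] [F.Faithful]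
    [DCoh.HasLpull (Limits.pullback.fst (X ↘ Spec (CommRingCat.of k)) (Y ↘ Spec (CommRingCat.of k)))]
    [DCoh.HasRpush (Limits.pullback.snd (X ↘ Spec (CommRingCat.of k)) (Y ↘ Spec (CommRingCat.of k)))]
    [∀ K : CochainComplex (Limits.pullback (X ↘ Spec (CommRingCat.of k)) (Y ↘ Spec (CommRingCat.of k))).Modules ℤ,
      DCoh.HasLTensorCx K]
    (hmem : ∀ M, F.essImage (G.obj M))
    (h1 : ∀ (M : X.Modules), Coh.IsCoh M → (CohB1.support M).Finite → (CohB1.support M).Nonempty →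
        (∀ x ∈ CohB1.support M, IsClosed ({x} : Set X)) →
        ∀ (hM : DCoh.IsPerfect (DCoh.inD X M)),
          Nonempty (F.obj ⟨DCoh.inD X M, hM⟩ ≅ G.obj ⟨DCoh.inD X M, hM⟩))
    (hH : ∀ (H : PP X ⥤ PP X) [H.Additive] [H.Linear k] [H.CommShift ℤ] [H.IsTriangulated],
      (∀ (M : X.Modules), Coh.IsCoh M → (CohB1.support M).Finite → (CohB1.support M).Nonempty →
        (∀ x ∈ CohB1.support M, IsClosed ({x} : Set X)) →
        ∀ (hM : DCoh.IsPerfect (DCoh.inD X M)),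
          Nonempty ((⟨DCoh.inD X M, hM⟩ : PP X) ≅ H.obj ⟨DCoh.inD X M, hM⟩)) → H.Full ∧ H.Faithful ∧ H.EssSurj)
    (K₀ : CochainComplex (Limits.pullback (X ↘ Spec (CommRingCat.of k)) (Y ↘ Spec (CommRingCat.of k))).Modules ℤ)
    (hK₀ : DCoh.IsPerfect (DCoh.toD _ K₀))
    (e₀ : G ⋙ ObjectProperty.ι (SGA6.perfP Y) ≅ ObjectProperty.ι (SGA6.perfP X) ⋙
      (DCoh.Lpull (Limits.pullback.fst (X ↘ Spec (CommRingCat.of k)) (Y ↘ Spec (CommRingCat.of k))) ⋙
        DCoh.LTensorCx K₀ ⋙ DCoh.Rpush (Limits.pullback.snd (X ↘ Spec (CommRingCat.of k)) (Y ↘ Spec (CommRingCat.of k))))) :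
    haveI : IsLocallyNoetherian X := LocallyOfFiniteType.isLocallyNoetherian (X ↘ Spec (CommRingCat.of k))
    ∃ K : CochainComplex (Limits.pullback (X ↘ Spec (CommRingCat.of k)) (Y ↘ Spec (CommRingCat.of k))).Modules ℤ,
      DCoh.IsPerfect (DCoh.toD _ K) ∧
      Nonempty (toP hreg ⋙ F ⋙ ObjectProperty.ι (SGA6.perfP Y) ≅
        (toP hreg ⋙ ObjectProperty.ι (SGA6.perfP X)) ⋙
          (DCoh.Lpull (Limits.pullback.fst (X ↘ Spec (CommRingCat.of k)) (Y ↘ Spec (CommRingCat.of k))) ⋙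
            DCoh.LTensorCx K ⋙ DCoh.Rpush (Limits.pullback.snd (X ↘ Spec (CommRingCat.of k)) (Y ↘ Spec (CommRingCat.of k))))) ∧
      ∀ Z : PP X, Nonempty ((F.obj Z).obj ≅
        (DCoh.Lpull (Limits.pullback.fst (X ↘ Spec (CommRingCat.of k)) (Y ↘ Spec (CommRingCat.of k))) ⋙
          DCoh.LTensorCx K ⋙ DCoh.Rpush (Limits.pullback.snd (X ↘ Spec (CommRingCat.of k)) (Y ↘ Spec (CommRingCat.of k)))).obj Z.obj) := by
  let sX := X ↘ Spec (CommRingCat.of k)
  haveI : IsLocallyNoetherian X := LocallyOfFiniteType.isLocallyNoetherian sX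
  haveI : CompactSpace X := QuasiCompact.compactSpace_of_compactSpace sX
  haveI : IsNoetherian X := {}
  haveI : JacobsonSpace X := LocallyOfFiniteType.jacobsonSpace sX
  haveI : Flat sX := inferInstance
  haveI := fun {A B : Scheme.{u}} (g : A ⟶ B) => Groth.L00.KFlat.hasLpull g
  obtain ⟨H, hA, hL', hC, hT, ⟨eH⟩⟩ := exists_lift_through F G (k := k) hmem
  haveI := hA; haveI := hL'; letI := hC; haveI := hT
  have hfix : ∀ (M : X.Modules), Coh.IsCoh M → (CohB1.support M).Finite → (CohB1.support M).Nonempty →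
      (∀ x ∈ CohB1.support M, IsClosed ({x} : Set X)) →
      ∀ (hM : DCoh.IsPerfect (DCoh.inD X M)),
        Nonempty ((⟨DCoh.inD X M, hM⟩ : PP X) ≅ H.obj ⟨DCoh.inD X M, hM⟩) := fun M a b c d e => by
    obtain ⟨i⟩ := h1 M a b c d e
    exact ⟨F.preimageIso (i ≪≫ (eH.app _).symm)⟩
  obtain ⟨hF, hF', hE⟩ := hH H hfix
  haveI := hF; haveI := hF'; haveI := hE
  obtain ⟨f, hf, -, L, hL, ⟨E⟩⟩ := exists_pullback_twist hreg H (k := k) hfix
  obtain ⟨N, hN, ⟨eN⟩⟩ := Groth.L08.Cube.exists_inverse hL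
  have hLf := Groth.L16.Existence.isFinLocFree_of_isInvertible hL
  have hNf := Groth.L16.Existence.isFinLocFree_of_isInvertible hN
  haveI := Groth.L29.RelPC.additive_pullback f.hom
  haveI := Groth.L29.RelPC.preservesFiniteLimits_pullback f.hom
  haveI := Groth.L29.RelPC.preservesFiniteColimits_pullback f.hom
  haveI := (Groth.L16.Rees.PushExact.exact_instances hLf).1
  haveI := (Groth.L16.Rees.PushExact.exact_instances hLf).2
  haveI := (Groth.L16.Rees.PushExact.exact_instances hNf).1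
  haveI := (Groth.L16.Rees.PushExact.exact_instances hNf).2
  let Pf := (Scheme.Modules.pullback f.hom)
  let TL := Groth.Lead.TwistEquiv.T L hLf
  let TN := Groth.Lead.TwistEquiv.T N hNf
  let TX := Pf.mapDerivedCategory ⋙ TL
  let Tinv := TN ⋙ DCoh.Lpull f.inv
  let sg := DerivedCategory.singleFunctor X.Modules 0
  let E₀ := Pf ⋙ DCoh.tensorRightMod L
  let Einv := DCoh.tensorRightMod N ⋙ Scheme.Modules.pullback f.inv
  let eT : sg ⋙ TX ≅ E₀ ⋙ sg :=
    (Functor.associator _ _ _).symm ≪≫ Functor.isoWhiskerRight (Pf.mapDerivedCategorySingleFunctor 0) TL ≪≫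
      Functor.associator _ _ _ ≪≫
      Functor.isoWhiskerLeft Pf ((DCoh.tensorRightMod L).mapDerivedCategorySingleFunctor 0) ≪≫
      (Functor.associator _ _ _).symm
  let ιX := ObjectProperty.ι (SGA6.perfP X)
  let s : toP hreg ⋙ (H ⋙ ιX) ≅ toP hreg ⋙ (ιX ⋙ TX) :=
    E ≪≫ Functor.isoWhiskerLeft (ObjectProperty.ι (fun M : X.Modules => Coh.IsCoh M)) eT.symm
  let back : Einv ⋙ E₀ ≅ 𝟭 X.Modules :=
    Functor.associator _ _ _ ≪≫
      Functor.isoWhiskerLeft (DCoh.tensorRightMod N) ((Functor.associator _ _ _).symm ≪≫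
        Functor.isoWhiskerRight (Scheme.Modules.pullbackComp f.hom f.inv ≪≫
          Scheme.Modules.pullbackCongr f.hom_inv_id ≪≫ Scheme.Modules.pullbackId X) _ ≪≫ Functor.leftUnitor _) ≪≫
      Groth.Lead.TwistEquiv.compIso N L ≪≫ Groth.Lead.TwistEquiv.unitIso (tensorComm N L ≪≫ eN)
  let esg : sg ≅ HomologicalComplex.single X.Modules (ComplexShape.up ℤ) 0 ⋙ DerivedCategory.Q :=
    (SingleFunctors.evaluation _ _ 0).mapIso (DerivedCategory.singleFunctorsPostcompQIso X.Modules)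
  let eTinv : sg ⋙ Tinv ≅ Einv ⋙ sg :=
    (Functor.associator _ _ _).symm ≪≫
      Functor.isoWhiskerRight ((DCoh.tensorRightMod N).mapDerivedCategorySingleFunctor 0) _ ≪≫
      Functor.associator _ _ _ ≪≫
      Functor.isoWhiskerLeft _ (Groth.L07.FMDiag.pullSingleIso f.inv ≪≫
        Functor.isoWhiskerLeft _ esg.symm) ≪≫ (Functor.associator _ _ _).symm
  have hinv : ∀ Z : DCoh.D X, Nonempty (Tinv.obj (TX.obj Z) ≅ Z) := by
    intro Z
    obtain ⟨a⟩ := Groth.L29.RelPC.nonempty_Lpull_flat f.hom Z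
    obtain ⟨b⟩ := Groth.L10.FMBC.nonempty_lpull_comp' f.inv f.hom f.inv_hom_id
    obtain ⟨c⟩ := Groth.L10.FMDiag.nonempty_Lpull_id (X := X)
    exact ⟨(DCoh.Lpull f.inv).mapIso ((Groth.Lead.TwistEquiv.compT hLf hNf eN).app _ ≪≫ a.symm) ≪≫
      (b ≪≫ c).app Z⟩
  obtain ⟨K, hK, ⟨κ⟩⟩ := nonempty_kernel_twist (sX := sX) (sY := Y ↘ Spec (CommRingCat.of k)) f hf K₀ hK₀ hN hNf
  let Φ₀ := DCoh.Lpull (Limits.pullback.fst sX (Y ↘ Spec (CommRingCat.of k))) ⋙ DCoh.LTensorCx K₀ ⋙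
    DCoh.Rpush (Limits.pullback.snd sX (Y ↘ Spec (CommRingCat.of k)))
  let qc : PP X ⥤ (DCoh.IsQCohD (X := X)).FullSubcategory :=
    ObjectProperty.lift _ ιX fun Z => Groth.L29.DC.PCQCoh.isQCohD_of_perfect Z.property
  refine ⟨K, hK, ⟨?_⟩, fun Z => ?_⟩
  · let EinvC : CC X ⥤ CC X := ObjectProperty.lift _ (ObjectProperty.ι _ ⋙ Einv) fun M =>
      Groth.L16.AffineBC.isCoh_pullback f.inv (Groth.L03.Euler.isCoh_tensor hN M.property)
    let ιc := ObjectProperty.ι (fun M : X.Modules => Coh.IsCoh M)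
    let e1' : toP hreg ⋙ ιX ≅ (EinvC ⋙ toP hreg ⋙ H) ⋙ ιX :=
      (Functor.isoWhiskerLeft EinvC E ≪≫
        Functor.isoWhiskerLeft ιc (Functor.isoWhiskerRight back sg ≪≫ Functor.leftUnitor _)).symm
    let e1 : toP hreg ≅ EinvC ⋙ toP hreg ⋙ H :=
      NatIso.ofComponents (fun M => ObjectProperty.isoMk _ (e1'.app M))
        fun g => ObjectProperty.hom_ext _ (e1'.hom.naturality g)
    exact Functor.isoWhiskerRight e1 (F ⋙ ObjectProperty.ι (SGA6.perfP Y)) ≪≫
      Functor.isoWhiskerLeft (EinvC ⋙ toP hreg) (Functor.isoWhiskerRight eH (ObjectProperty.ι (SGA6.perfP Y)) ≪≫ e₀) ≪≫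
      Functor.isoWhiskerLeft ιc (Functor.isoWhiskerRight eTinv.symm Φ₀) ≪≫
      Functor.isoWhiskerLeft (toP hreg ⋙ qc) κ
  · let Z' := H.objPreimage Z
    obtain ⟨u⟩ := nonempty_obj_iso hreg (H ⋙ ιX) (ιX ⋙ TX) s Z'
    let eZ := H.objObjPreimageIso Z
    obtain ⟨v⟩ := hinv Z'.obj
    let w : Z'.obj ≅ Tinv.obj Z.obj := v.symm ≪≫ Tinv.mapIso (u.symm ≪≫ ιX.mapIso eZ)
    exact ⟨(F ⋙ ObjectProperty.ι (SGA6.perfP Y)).mapIso eZ.symm ≪≫
      (ObjectProperty.ι (SGA6.perfP Y)).mapIso (eH.app Z') ≪≫ e₀.app Z' ≪≫ Φ₀.mapIso w ≪≫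
      κ.app (qc.obj Z)⟩

end Groth.L07.PtAuto
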