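import Groth.Agent.L07.PtAuto.Functor
import Groth.Agent.L07.BvdB.PointSky
import Groth.Agent.L16.CohGab.Closed
import Groth.Agent.L15.PureKill.Basic
import Mathlib.Topology.JacobsonSpace

/-! An exact functor fixing the points preserves supports. -/

set_option autoImplicit false
set_option linter.style.haveILetI false
set_option backward.defeqAttrib.useBackward true
set_option backward.isDefEq.respectTransparency false
set_option backward.isDefEq.respectTransparency.types false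

universe u
open CategoryTheory CategoryTheory.Limits AlgebraicGeometry TopologicalSpace Opposite
open IsLocalRing

noncomputable section

namespace Groth.L07.PtAuto

open Groth.L07.BvdB.PointSky

variable {X : Scheme.{u}}

local notation "S[" x "]" => Groth.L00.Stk.F X x

/-- Isomorphism on the stalks over `U`. -/
def BijOn {M N : X.Modules} (g : M ⟶ N) (U : X.Opens) : Prop :=
  ∀ x ∈ U, Function.Bijective ((S[x]).map g)

/-- Zero on the stalks over `U`. -/
def ZeroOn {M N : X.Modules} (g : M ⟶ N) (U : X.Opens) : Prop :=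
  ∀ x ∈ U, ∀ s, (S[x]).map g s = 0

theorem stalk_app_germ {M N : X.Modules} (g : M ⟶ N) {V : X.Opens} {x : X} (hx : x ∈ V) (s : Γ(M, V)) :
    (S[x]).map g (M.presheaf.germ V x hx s) = N.presheaf.germ V x hx (g.app V s) :=
  TopCat.Presheaf.stalkFunctor_map_germ_apply V x hx g.mapPresheaf s

theorem BijOn.app {M N : X.Modules} {g : M ⟶ N} {U : X.Opens} (h : BijOn g U) {V : X.Opens} (hV : V ≤ U) :
    Function.Bijective (g.app V) :=
  TopCat.Presheaf.app_bijective_of_stalkFunctor_map_bijective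
    ((Groth.L21.Mod.toAbSh X).map g) V fun x hx => h x (hV hx)

theorem BijOn.of_app {M N : X.Modules} {g : M ⟶ N} {U : X.Opens}
    (h : ∀ V ≤ U, Function.Bijective (g.app V)) : BijOn g U := by
  intro x hx
  refine ⟨fun a b hab => ?_, fun b => ?_⟩
  · obtain ⟨V, hV, a', rfl⟩ := M.presheaf.exists_germ_eq (x := x) a
    obtain ⟨W, hW, b', rfl⟩ := M.presheaf.exists_germ_eq (x := x) b
    rw [stalk_app_germ, stalk_app_germ] at hab
    obtain ⟨Z, hZ, i, j, he⟩ := TopCat.Presheaf.germ_eq N.presheaf x hV hW _ _ hab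
    have hZU : x ∈ Z ⊓ U := ⟨hZ, hx⟩
    let p : Z ⊓ U ⟶ V := homOfLE (inf_le_left.trans i.le)
    let q : Z ⊓ U ⟶ W := homOfLE (inf_le_left.trans j.le)
    rw [← TopCat.Presheaf.germ_res_apply M.presheaf p x hZU a', ← TopCat.Presheaf.germ_res_apply M.presheaf q x hZU b']
    refine congrArg _ ((h (Z ⊓ U) inf_le_right).1 ?_)
    have h1 := NatTrans.naturality_apply g.mapPresheaf p.op a'
    have h2 := NatTrans.naturality_apply g.mapPresheaf q.op b'
    refine h1.trans (Eq.trans ?_ h2.symm)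
    have e1 : p = (homOfLE inf_le_left : Z ⊓ U ⟶ Z) ≫ i := rfl
    have e2 : q = (homOfLE inf_le_left : Z ⊓ U ⟶ Z) ≫ j := rfl
    rw [e1, e2, op_comp, op_comp, Functor.map_comp, Functor.map_comp]
    exact congrArg _ he
  · obtain ⟨V, hV, b', rfl⟩ := N.presheaf.exists_germ_eq (x := x) b
    have hVU : x ∈ V ⊓ U := ⟨hV, hx⟩
    obtain ⟨a, ha⟩ := (h (V ⊓ U) inf_le_right).2 (N.presheaf.map (homOfLE inf_le_left : V ⊓ U ⟶ V).op b')
    refine ⟨M.presheaf.germ _ x hVU a, ?_⟩
    rw [stalk_app_germ, ha, TopCat.Presheaf.germ_res_apply]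

theorem ZeroOn.app {M N : X.Modules} {g : M ⟶ N} {U : X.Opens} (h : ZeroOn g U) {V : X.Opens} (hV : V ≤ U)
    (s : Γ(M, V)) : g.app V s = 0 :=
  Groth.L15.PureKill.germ_ext fun x hx => by rw [map_zero, ← stalk_app_germ]; exact h x (hV hx) _

theorem ZeroOn.of_app {M N : X.Modules} {g : M ⟶ N} {U : X.Opens}
    (h : ∀ V ≤ U, ∀ s, g.app V s = 0) : ZeroOn g U := by
  intro x hx s
  obtain ⟨V, hV, s', rfl⟩ := M.presheaf.exists_germ_eq (x := x) s
  have hVU : x ∈ V ⊓ U := ⟨hV, hx⟩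
  rw [← TopCat.Presheaf.germ_res_apply M.presheaf (homOfLE inf_le_left : V ⊓ U ⟶ V) x hVU s', stalk_app_germ,
    h _ inf_le_right, map_zero]

theorem subsingleton_of_not_mem {M : X.Modules} {x : X} (h : x ∉ CohB1.support M) :
    Subsingleton ((S[x]).obj M) := not_not.1 h

theorem bij_zero_of_shortExact {K M I N C : X.Modules} (ι : K ⟶ M) (e : M ⟶ I) (i : I ⟶ N) (π : N ⟶ C)
    {w₁ : ι ≫ e = 0} {w₂ : i ≫ π = 0} (h₁ : (ShortComplex.mk ι e w₁).ShortExact)
    (h₂ : (ShortComplex.mk i π w₂).ShortExact) (x : X) :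
    (Function.Bijective ((S[x]).map (e ≫ i)) ↔ x ∉ CohB1.support K ∧ x ∉ CohB1.support C) ∧
      ((∀ s, (S[x]).map (e ≫ i) s = 0) ↔ x ∉ CohB1.support I) := by
  have s₁ := h₁.map_of_exact (S[x])
  have s₂ := h₂.map_of_exact (S[x])
  let ιx := (S[x]).map ι
  let ex := (S[x]).map e
  let ix := (S[x]).map i
  let πx := (S[x]).map π
  have hι : Function.Injective ιx := (ModuleCat.mono_iff_injective _).1 s₁.mono_f
  have he : Function.Surjective ex := (ModuleCat.epi_iff_surjective _).1 s₁.epi_g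
  have hi : Function.Injective ix := (ModuleCat.mono_iff_injective _).1 s₂.mono_f
  have hπ : Function.Surjective πx := (ModuleCat.epi_iff_surjective _).1 s₂.epi_g
  have r₁ := s₁.exact.moduleCat_range_eq_ker
  have r₂ := s₂.exact.moduleCat_range_eq_ker
  have ec : ∀ s, (S[x]).map (e ≫ i) s = ix (ex s) := fun s => congr($((S[x]).map_comp e i) s)
  refine ⟨⟨fun h => ⟨?_, ?_⟩, fun ⟨hK, hC⟩ => ?_⟩, ⟨fun h => ?_, fun h s => ?_⟩⟩
  · refine fun hn => hn ⟨fun a b => hι (h.1 ?_)⟩
    rw [ec, ec]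
    have z : ∀ c, ex (ιx c) = 0 := fun c => LinearMap.mem_ker.1 (r₁.le ⟨c, rfl⟩)
    rw [z, z]
  · refine fun hn => hn ⟨fun a b => ?_⟩
    have z : ∀ c : (S[x]).obj C, c = 0 := fun c => by
      obtain ⟨n, rfl⟩ := hπ c
      obtain ⟨m, rfl⟩ := h.2 n
      rw [ec]
      exact LinearMap.mem_ker.1 (r₂.le ⟨ex m, rfl⟩)
    exact (z a).trans (z b).symm
  · haveI := subsingleton_of_not_mem hK
    haveI := subsingleton_of_not_mem hC
    refine ⟨(injective_iff_map_eq_zero ((S[x]).map (e ≫ i)).hom).2 fun s hs => ?_, fun n => ?_⟩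
    · obtain ⟨c, rfl⟩ := r₁.ge (LinearMap.mem_ker.2 (hi (((ec s).symm.trans hs).trans (map_zero _).symm)))
      rw [show c = 0 from @Subsingleton.elim ((S[x]).obj K) _ c 0, map_zero]
    · obtain ⟨t, rfl⟩ := r₂.ge (LinearMap.mem_ker.2 (Subsingleton.elim _ _ : πx n = 0))
      obtain ⟨m, rfl⟩ := he t
      exact ⟨m, ec m⟩
  · refine fun hn => hn ⟨fun a b => ?_⟩
    have z : ∀ t : (S[x]).obj I, t = 0 := fun t => by
      obtain ⟨m, rfl⟩ := he t
      exact hi (((ec m).symm.trans (h m)).trans (map_zero _).symm)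
    exact (z a).trans (z b).symm
  · haveI := subsingleton_of_not_mem h
    rw [ec, Subsingleton.elim (ex s) 0, map_zero]

/-- An exact functor on coherent modules preserving supports. -/
structure SuppExact (Φ : CC X ⥤ CC X) : Prop where
  supp : ∀ M : CC X, CohB1.support (Φ.obj M).obj = CohB1.support M.obj
  exact : ∀ {A B C : CC X} (f : A ⟶ B) (g : B ⟶ C) (w : f.hom ≫ g.hom = 0),
    (ShortComplex.mk f.hom g.hom w).ShortExact →
      ∃ w', (ShortComplex.mk (Φ.map f).hom (Φ.map g).hom w').ShortExact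

theorem SuppExact.bij_zero [IsLocallyNoetherian X] {Φ : CC X ⥤ CC X} (hΦ : SuppExact Φ) {M N : CC X}
    (g : M ⟶ N) (U : X.Opens) :
    (BijOn g.hom U ↔ BijOn (Φ.map g).hom U) ∧ (ZeroOn g.hom U ↔ ZeroOn (Φ.map g).hom U) := by
  let K : CC X := ⟨kernel g.hom, (Groth.L16.CohKernel.isCoh_kernel_cokernel M.property N.property g.hom).1⟩
  let C : CC X := ⟨cokernel g.hom, (Groth.L16.CohKernel.isCoh_kernel_cokernel M.property N.property g.hom).2⟩
  let ιK : K ⟶ M := ObjectProperty.homMk (kernel.ι g.hom)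
  let πC : N ⟶ C := ObjectProperty.homMk (cokernel.π g.hom)
  let I : CC X := ⟨Abelian.image g.hom,
    (Groth.L16.CohKernel.isCoh_kernel_cokernel N.property C.property (cokernel.π g.hom)).1⟩
  let e : M ⟶ I := ObjectProperty.homMk (Abelian.factorThruImage g.hom)
  let i : I ⟶ N := ObjectProperty.homMk (Abelian.image.ι g.hom)
  have hg : e ≫ i = g := ObjectProperty.hom_ext _ (Abelian.image.fac g.hom)
  have w₁ : ιK.hom ≫ e.hom = 0 := by
    rw [← cancel_mono (Abelian.image.ι g.hom), zero_comp]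
    simp [ιK, e]
  have w₂ : i.hom ≫ πC.hom = 0 := kernel.condition _
  have h₂ : (ShortComplex.mk i.hom πC.hom w₂).ShortExact :=
    { exact := ShortComplex.exact_of_f_is_kernel _ (kernelIsKernel _)
      mono_f := inferInstanceAs (Mono (Abelian.image.ι g.hom))
      epi_g := inferInstanceAs (Epi (cokernel.π g.hom)) }
  have h₁ : (ShortComplex.mk ιK.hom e.hom w₁).ShortExact := by
    haveI : Mono ιK.hom := inferInstanceAs (Mono (kernel.ι g.hom))
    haveI : Epi e.hom := inferInstanceAs (Epi (Abelian.factorThruImage g.hom))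
    refine { exact := ShortComplex.exact_of_f_is_kernel _ ?_, mono_f := ‹_›, epi_g := ‹_› }
    exact isKernelOfComp _ _ (kernelIsKernel g.hom) (by simpa [ιK, e] using w₁) (Abelian.image.fac g.hom)
  obtain ⟨w₁', h₁'⟩ := hΦ.exact ιK e w₁ h₁
  obtain ⟨w₂', h₂'⟩ := hΦ.exact i πC w₂ h₂
  have hgh : g.hom = e.hom ≫ i.hom := congrArg (·.hom) hg.symm
  have hgΦ : (Φ.map g).hom = (Φ.map e).hom ≫ (Φ.map i).hom := by
    rw [← hg, Functor.map_comp]; rfl
  have key := fun x => bij_zero_of_shortExact _ _ _ _ h₁ h₂ x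
  have key' := fun x => bij_zero_of_shortExact _ _ _ _ h₁' h₂' x
  simp only [BijOn, ZeroOn, hgh, hgΦ]
  simp only [hΦ.supp] at key'
  exact ⟨forall₂_congr fun x _ => (key x).1.trans (key' x).1.symm,
    forall₂_congr fun x _ => (key x).2.trans (key' x).2.symm⟩

theorem exists_nonzero_hom_pt_iff [IsLocallyNoetherian X] {M : X.Modules} (hM : Coh.IsCoh M) (x : X) :
    x ∈ CohB1.support M ↔ ∃ f : M ⟶ pt x, f ≠ 0 := by
  refine ⟨exists_hom_pt hM, fun ⟨f, hf⟩ => by_contra fun hx => hf ?_⟩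
  obtain ⟨e⟩ := nonempty_iso_sky x
  haveI := subsingleton_of_not_mem hx
  refine (cancel_mono e.hom).1 (((Groth.L00.Sky.adj x).homEquiv M _).symm.injective ?_)
  refine ModuleCat.hom_ext (LinearMap.ext fun s => ?_)
  rw [Subsingleton.elim s 0, map_zero, map_zero]

/-- A fully faithful functor fixing the points preserves supports. -/
theorem supp_eq_of_fix [IsLocallyNoetherian X] [CompactSpace X] [JacobsonSpace X] {Φ : CC X ⥤ CC X} [Φ.Full] [Φ.Faithful]
    [Φ.PreservesZeroMorphisms]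
    (hpt : ∀ (x : X) (hx : IsClosed ({x} : Set X)), Nonempty ((Φ.obj ⟨pt x, isCoh_pt hx⟩).obj ≅ pt x))
    (M : CC X) : CohB1.support (Φ.obj M).obj = CohB1.support M.obj := by
  have key : ∀ x : X, IsClosed ({x} : Set X) → (x ∈ CohB1.support (Φ.obj M).obj ↔ x ∈ CohB1.support M.obj) := by
    intro x hx
    obtain ⟨e⟩ := hpt x hx
    rw [exists_nonzero_hom_pt_iff (Φ.obj M).property, exists_nonzero_hom_pt_iff M.property]
    constructor
    · rintro ⟨f, hf⟩
      obtain ⟨g, hg⟩ := Φ.map_surjective (ObjectProperty.homMk (f ≫ e.inv) : Φ.obj M ⟶ Φ.obj ⟨pt x, isCoh_pt hx⟩)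
      refine ⟨g.hom, fun h => hf ?_⟩
      have h1 : g = 0 := ObjectProperty.hom_ext _ h
      rw [h1, Functor.map_zero] at hg
      exact (cancel_mono e.inv).1 ((congrArg (·.hom) hg).symm.trans zero_comp.symm)
    · rintro ⟨f, hf⟩
      let g : M ⟶ (⟨pt x, isCoh_pt hx⟩ : CC X) := ObjectProperty.homMk f
      refine ⟨(Φ.map g).hom ≫ e.hom, fun h => hf ?_⟩
      have h1 : (Φ.map g).hom = 0 := (cancel_mono e.hom).1 (h.trans zero_comp.symm)
      exact congrArg (·.hom) (Φ.map_injective (show Φ.map g = Φ.map 0 by rw [Functor.map_zero]; exact ObjectProperty.hom_ext _ h1))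
  haveI : IsNoetherian X := {}
  rw [← JacobsonSpace.closure_inter_closedPoints (Groth.L16.CohGab.isClosed_support (Φ.obj M).property),
    ← JacobsonSpace.closure_inter_closedPoints (Groth.L16.CohGab.isClosed_support M.property)]
  congr 1
  ext x
  exact and_congr_left fun hx => key x hx

end Groth.L07.PtAuto
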