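import Groth.Agent.L07.PtAuto.Deg0
import Groth.Agent.S6750
import Groth.Agent.S6751

/-! A functor fixing the modules of finite length induces an exact functor on coherent modules. -/

set_option autoImplicit false
set_option linter.style.haveILetI false
set_option backward.defeqAttrib.useBackward true
set_option backward.isDefEq.respectTransparency false
set_option backward.isDefEq.respectTransparency.types false

universe u
open CategoryTheory CategoryTheory.Limits CategoryTheory.Pretriangulated AlgebraicGeometry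
open IsLocalRing
attribute [local instance] HasDerivedCategory.standard

noncomputable section

namespace Groth.L07.PtAuto

open Groth.L00.Sky Groth.L07.BvdB.PointSky Groth.L07.BvdB.PointEfface Groth.L07.BvdB.PointSelf

variable {X : Scheme.{u}}

/-- Perfect objects. -/
abbrev PP (X : Scheme.{u}) := (SGA6.perfP X).FullSubcategory
local notation "sg" => DerivedCategory.singleFunctor X.Modules
local notation "HH" => DerivedCategory.homologyFunctor X.Modules

theorem skD_map_eq_zero {x : X} {T T' : ModuleCat.{u} (X.presheaf.stalk x)} (j : T ⟶ T')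
    (h : (skD x).map j = 0) : j = 0 := by
  haveI : ∀ N, IsIso ((adj x).counit.app N) := fun N => isIso_counit N
  have h0 : (skyF x).map j = 0 := (sg 0).map_injective (h.trans ((sg 0).map_zero _ _).symm)
  have h1 := (adj x).counit_naturality j
  rw [h0, Functor.map_zero, zero_comp] at h1
  exact (cancel_epi ((adj x).counit.app T)).1 (h1.symm.trans comp_zero.symm)

theorem skD_map_surjective {x : X} {T T' : ModuleCat.{u} (X.presheaf.stalk x)}
    (g : (skD x).obj T ⟶ (skD x).obj T') : ∃ j : T ⟶ T', (skD x).map j = g := by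
  obtain ⟨g₀, rfl⟩ := (sg 0).map_surjective g
  haveI : IsIso ((adj x).counit.app T) := isIso_counit T
  refine ⟨inv ((adj x).counit.app T) ≫ ((adj x).homEquiv _ _).symm g₀, congrArg (sg 0).map ?_⟩
  apply ((adj x).homEquiv _ _).symm.injective
  rw [Adjunction.homEquiv_counit, (adj x).counit_naturality, IsIso.hom_inv_id_assoc]

variable [IsLocallyNoetherian X] (hreg : Models.IsRegularScheme X) [(SGA6.perfP X).IsTriangulated]

/-- A map of skyscrapers as a map of perfect objects. -/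
abbrev skMap {x : X} (hx : IsClosed ({x} : Set X)) {T T' : ModuleCat.{u} (X.presheaf.stalk x)}
    (hT : IsFiniteLength (X.presheaf.stalk x) T) (hT' : IsFiniteLength (X.presheaf.stalk x) T') (u : T ⟶ T') :
    skyP hreg hx T hT ⟶ skyP hreg hx T' hT' := ObjectProperty.homMk ((skD x).map u)

omit [(SGA6.perfP X).IsTriangulated] in
theorem skMap_surjective {x : X} (hx : IsClosed ({x} : Set X)) {T T' : ModuleCat.{u} (X.presheaf.stalk x)}
    (hT : IsFiniteLength (X.presheaf.stalk x) T) (hT' : IsFiniteLength (X.presheaf.stalk x) T')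
    (g : skyP hreg hx T hT ⟶ skyP hreg hx T' hT') : ∃ u, skMap hreg hx hT hT' u = g :=
  let ⟨u, hu⟩ := skD_map_surjective g.hom
  ⟨u, ObjectProperty.hom_ext _ hu⟩

omit [(SGA6.perfP X).IsTriangulated] in
theorem skMap_comp {x : X} (hx : IsClosed ({x} : Set X)) {A B C : ModuleCat.{u} (X.presheaf.stalk x)}
    (hA : IsFiniteLength (X.presheaf.stalk x) A) (hB : IsFiniteLength (X.presheaf.stalk x) B)
    (hC : IsFiniteLength (X.presheaf.stalk x) C) (f : A ⟶ B) (g : B ⟶ C) :
    skMap hreg hx hA hC (f ≫ g) = skMap hreg hx hA hB f ≫ skMap hreg hx hB hC g :=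
  ObjectProperty.hom_ext _ ((skD x).map_comp f g)

/-- `Good` inside the perfect objects. -/
def GoodP (P : PP X) : Prop :=
  ∀ (x : X) (hx : IsClosed ({x} : Set X)) (T : ModuleCat.{u} (X.presheaf.stalk x))
    (hT : IsFiniteLength (X.presheaf.stalk x) T),
    (∀ i : ℤ, i < 0 → ∀ φ : P ⟶ (skyP hreg hx T hT)⟦i⟧, φ = 0) ∧
    ∀ i : ℤ, 0 < i → ∀ φ : P ⟶ (skyP hreg hx T hT)⟦i⟧, ∃ (T' : ModuleCat.{u} (X.presheaf.stalk x))
      (hT' : IsFiniteLength (X.presheaf.stalk x) T') (u : T ⟶ T'), Function.Injective u ∧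
        φ ≫ (skMap hreg hx hT hT' u)⟦i⟧' = 0

theorem goodP_iff (P : PP X) : GoodP hreg P ↔ Good P.obj := by
  let ι := (SGA6.perfP X).ι
  have key : ∀ {x : X} (hx : IsClosed ({x} : Set X)) {T T' : ModuleCat.{u} (X.presheaf.stalk x)}
      (hT : IsFiniteLength (X.presheaf.stalk x) T) (hT' : IsFiniteLength (X.presheaf.stalk x) T') (u : T ⟶ T')
      (i : ℤ) (φ : P ⟶ (skyP hreg hx T hT)⟦i⟧), (φ ≫ (skMap hreg hx hT hT' u)⟦i⟧' = 0 ↔
        (φ.hom ≫ ((ι.commShiftIso i).app (skyP hreg hx T hT)).hom) ≫ ((skD x).map u)⟦i⟧' = 0) := by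
    intro x hx T T' hT hT' u i φ
    have hn := (ι.commShiftIso i).hom.naturality (skMap hreg hx hT hT' u)
    refine ⟨fun h => ?_, fun h => ObjectProperty.hom_ext _ ?_⟩
    · rw [Category.assoc]
      show φ.hom ≫ (ι.commShiftIso i).hom.app _ ≫ (shiftFunctor (DCoh.D X) i).map (ι.map (skMap hreg hx hT hT' u)) = 0
      erw [← hn]
      rw [← Category.assoc]
      erw [show φ.hom ≫ ι.map ((skMap hreg hx hT hT' u)⟦i⟧') = 0 from congrArg ι.map h]
      exact zero_comp
    · refine (cancel_mono ((ι.commShiftIso i).hom.app (skyP hreg hx T' hT'))).1 ?_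
      refine (Category.assoc _ _ _).trans ((congrArg (φ.hom ≫ ·) hn).trans ?_)
      exact ((Category.assoc _ _ _).symm.trans h).trans zero_comp.symm
  refine ⟨fun h x hx T hT => ⟨fun i hi ψ => ?_, fun i hi ψ => ?_⟩, fun h x hx T hT => ⟨fun i hi φ => ?_, fun i hi φ => ?_⟩⟩
  · let φ : P ⟶ (skyP hreg hx T hT)⟦i⟧ :=
      ObjectProperty.homMk (ψ ≫ ((ι.commShiftIso i).app (skyP hreg hx T hT)).inv)
    have h0 : φ.hom = 0 := congrArg ι.map ((h x hx T hT).1 i hi φ)
    exact (cancel_mono ((ι.commShiftIso i).app (skyP hreg hx T hT)).inv).1 (h0.trans zero_comp.symm)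
  · let φ : P ⟶ (skyP hreg hx T hT)⟦i⟧ :=
      ObjectProperty.homMk (ψ ≫ ((ι.commShiftIso i).app (skyP hreg hx T hT)).inv)
    obtain ⟨T', hT', u, hu, h0⟩ := (h x hx T hT).2 i hi φ
    refine ⟨T', u, hT', hu, ?_⟩
    have := (key hx hT hT' u i φ).1 h0
    simp only [φ, ObjectProperty.homMk_hom, Category.assoc] at this
    erw [Iso.inv_hom_id_assoc] at this
    exact this
  · refine ObjectProperty.hom_ext _ ?_
    exact (cancel_mono ((ι.commShiftIso i).app (skyP hreg hx T hT)).hom).1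
      (((h x hx T hT).1 i hi _).trans zero_comp.symm)
  · obtain ⟨T', u, hT', hu, h0⟩ := (h x hx T hT).2 i hi (φ.hom ≫ ((ι.commShiftIso i).app (skyP hreg hx T hT)).hom)
    exact ⟨T', hT', u, hu, (key hx hT hT' u i φ).2 h0⟩

variable (F : PP X ⥤ PP X) [F.Additive] [F.CommShift ℤ] [F.Full] [F.Faithful]
  (θ : ∀ (x : X) (hx : IsClosed ({x} : Set X)) (T : ModuleCat.{u} (X.presheaf.stalk x))
    (hT : IsFiniteLength (X.presheaf.stalk x) T), skyP hreg hx T hT ≅ F.obj (skyP hreg hx T hT))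

omit [(SGA6.perfP X).IsTriangulated] [F.Additive] [F.CommShift ℤ] [F.Faithful] in
/-- Conjugate of a map between fixed objects. -/
theorem exists_conj {x : X} (hx : IsClosed ({x} : Set X)) {T T' : ModuleCat.{u} (X.presheaf.stalk x)}
    (hT : IsFiniteLength (X.presheaf.stalk x) T) (hT' : IsFiniteLength (X.presheaf.stalk x) T') :
    (∀ u, ∃ u', (θ x hx T hT).hom ≫ F.map (skMap hreg hx hT hT' u) = skMap hreg hx hT hT' u' ≫ (θ x hx T' hT').hom) ∧
    ∀ u', ∃ u, (θ x hx T hT).hom ≫ F.map (skMap hreg hx hT hT' u) = skMap hreg hx hT hT' u' ≫ (θ x hx T' hT').hom := by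
  refine ⟨fun u => ?_, fun u' => ?_⟩
  · obtain ⟨u', hu'⟩ := skMap_surjective hreg hx hT hT'
      ((θ x hx T hT).hom ≫ F.map (skMap hreg hx hT hT' u) ≫ (θ x hx T' hT').inv)
    exact ⟨u', by rw [hu']; simp⟩
  · obtain ⟨g, hg⟩ := F.map_surjective ((θ x hx T hT).inv ≫ skMap hreg hx hT hT' u' ≫ (θ x hx T' hT').hom)
    obtain ⟨u, rfl⟩ := skMap_surjective hreg hx hT hT' g
    exact ⟨u, by rw [hg]; simp⟩

theorem injective_conj {x : X} (hx : IsClosed ({x} : Set X)) {T T' : ModuleCat.{u} (X.presheaf.stalk x)}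
    (hT : IsFiniteLength (X.presheaf.stalk x) T) (hT' : IsFiniteLength (X.presheaf.stalk x) T') {u u' : T ⟶ T'}
    (h : (θ x hx T hT).hom ≫ F.map (skMap hreg hx hT hT' u) = skMap hreg hx hT hT' u' ≫ (θ x hx T' hT').hom) :
    Function.Injective u ↔ Function.Injective u' := by
  let R := X.presheaf.stalk x
  haveI := (isFiniteLength_iff_isNoetherian_isArtinian.1 hT).1
  haveI := (isFiniteLength_iff_isNoetherian_isArtinian.1 hT).2
  have hK : ∀ N : Submodule R T, IsFiniteLength R (ModuleCat.of R N) := fun N =>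
    isFiniteLength_iff_isNoetherian_isArtinian.2 ⟨inferInstanceAs (IsNoetherian R N), inferInstanceAs (IsArtinian R N)⟩
  have zero : ∀ (A : ModuleCat.{u} R) (hA : IsFiniteLength R A) (B : ModuleCat.{u} R) (hB : IsFiniteLength R B)
      (a : A ⟶ B), skMap hreg hx hA hB a = 0 ↔ a = 0 := fun A hA B hB a =>
    ⟨fun h => skD_map_eq_zero a (congrArg (SGA6.perfP X).ι.map h),
      fun h => ObjectProperty.hom_ext _ (by
        subst h
        show (skD x).map 0 = 0
        haveI : (skyF (X := X) x).Additive := (adj x).right_adjoint_additive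
        rw [Functor.map_zero])⟩
  have inj : ∀ (a : T ⟶ T'), (∀ j : ModuleCat.of R (LinearMap.ker a.hom) ⟶ T, j ≫ a = 0 → j = 0) →
      Function.Injective a := fun a ha => by
    rw [← LinearMap.ker_eq_bot, eq_bot_iff]
    intro t ht
    have h0 := ha (ModuleCat.ofHom (LinearMap.ker a.hom).subtype) (by ext s; exact s.2)
    exact congr($h0 ⟨t, ht⟩)
  constructor
  · intro hu
    refine inj u' fun j hj => ?_
    obtain ⟨j₀, hj₀⟩ := (exists_conj hreg F θ hx (hK _) hT).2 j
    have h1 : F.map (skMap hreg hx (hK _) hT' (j₀ ≫ u)) = 0 := by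
      rw [skMap_comp hreg hx (hK _) hT hT', F.map_comp, ← cancel_epi (θ x hx _ (hK _)).hom, comp_zero,
        ← Category.assoc, hj₀, Category.assoc, h, ← Category.assoc, ← skMap_comp, hj, (zero _ _ _ _ _).2 rfl, zero_comp]
    have h2 : j₀ ≫ u = 0 := (zero _ _ _ _ _).1 (F.map_injective (h1.trans (F.map_zero _ _).symm))
    haveI : Mono u := (ModuleCat.mono_iff_injective u).2 hu
    have h3 : j₀ = 0 := (cancel_mono u).1 (h2.trans zero_comp.symm)
    rw [h3, (zero _ _ _ _ _).2 rfl, F.map_zero, comp_zero] at hj₀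
    exact (zero _ (hK _) _ hT _).1 ((cancel_mono (θ x hx T hT).hom).1 (hj₀.symm.trans zero_comp.symm))
  · intro hu'
    refine inj u fun j hj => ?_
    obtain ⟨j', hj'⟩ := (exists_conj hreg F θ hx (hK _) hT).1 j
    have h1 : skMap hreg hx (hK _) hT' (j' ≫ u') = 0 := by
      rw [skMap_comp hreg hx (hK _) hT hT', ← cancel_mono (θ x hx T' hT').hom, zero_comp, Category.assoc, ← h,
        ← Category.assoc, ← hj', Category.assoc, ← F.map_comp, ← skMap_comp, hj, (zero _ _ _ _ _).2 rfl,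
        F.map_zero, comp_zero]
    have h2 : j' ≫ u' = 0 := (zero _ _ _ _ _).1 h1
    haveI : Mono u' := (ModuleCat.mono_iff_injective u').2 hu'
    have h3 : j' = 0 := (cancel_mono u').1 (h2.trans zero_comp.symm)
    rw [h3, (zero _ _ _ _ _).2 rfl, zero_comp, ← comp_zero (f := (θ x hx _ (hK _)).hom), cancel_epi] at hj'
    exact (zero _ (hK _) _ hT _).1 (F.map_injective (hj'.trans (F.map_zero _ _).symm))

include θ in
theorem goodP_obj_iff (P : PP X) : GoodP hreg (F.obj P) ↔ GoodP hreg P := by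
  let Ψ : ∀ {x : X} (hx : IsClosed ({x} : Set X)) (T : ModuleCat.{u} (X.presheaf.stalk x))
      (hT : IsFiniteLength (X.presheaf.stalk x) T) (i : ℤ),
      (P ⟶ (skyP hreg hx T hT)⟦i⟧) → (F.obj P ⟶ (skyP hreg hx T hT)⟦i⟧) := fun {x} hx T hT i φ =>
    F.map φ ≫ (F.commShiftIso i).hom.app _ ≫ (θ x hx T hT).inv⟦i⟧'
  have bij : ∀ {x : X} (hx : IsClosed ({x} : Set X)) T hT i,
      Function.Bijective (Ψ (x := x) hx T hT i) := fun {x} hx T hT i => by
    refine ⟨fun a b h => F.map_injective ((cancel_mono _).1 h), fun w => ?_⟩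
    obtain ⟨φ, hφ⟩ := F.map_surjective (w ≫ (θ x hx T hT).hom⟦i⟧' ≫ (F.commShiftIso i).inv.app _)
    refine ⟨φ, ?_⟩
    simp only [Ψ, hφ, Category.assoc, Iso.inv_hom_id_app_assoc]
    rw [← Functor.map_comp, Iso.hom_inv_id, CategoryTheory.Functor.map_id]
    exact Category.comp_id _
  have nat : ∀ {x : X} (hx : IsClosed ({x} : Set X)) {T T' : ModuleCat.{u} (X.presheaf.stalk x)} hT hT'
      {u u' : T ⟶ T'} (_ : (θ x hx T hT).hom ≫ F.map (skMap hreg hx hT hT' u) =
        skMap hreg hx hT hT' u' ≫ (θ x hx T' hT').hom) (i : ℤ) (φ : P ⟶ (skyP hreg hx T hT)⟦i⟧),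
      Ψ hx T hT i φ ≫ (skMap hreg hx hT hT' u')⟦i⟧' = Ψ hx T' hT' i (φ ≫ (skMap hreg hx hT hT' u)⟦i⟧') := by
    intro x hx T T' hT hT' u u' h i φ
    have h' : (θ x hx T hT).inv ≫ skMap hreg hx hT hT' u' = F.map (skMap hreg hx hT hT' u) ≫ (θ x hx T' hT').inv := by
      rw [Iso.inv_comp_eq, ← Category.assoc, h, Category.assoc, Iso.hom_inv_id, Category.comp_id]
    simp only [Ψ, Category.assoc, F.map_comp]
    rw [← Functor.map_comp, h', Functor.map_comp]
    exact congrArg (F.map φ ≫ ·) ((F.commShiftIso i).hom.naturality_assoc _ _).symm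
  have Ψ0 : ∀ {x : X} (hx : IsClosed ({x} : Set X)) T hT i, Ψ (x := x) hx T hT i 0 = 0 := fun {x} hx T hT i => by
    simp [Ψ]
  refine ⟨fun h x hx T hT => ⟨fun i hi φ => ?_, fun i hi φ => ?_⟩, fun h x hx T hT => ⟨fun i hi w => ?_, fun i hi w => ?_⟩⟩
  · exact (bij hx T hT i).1 (((h x hx T hT).1 i hi _).trans (Ψ0 hx T hT i).symm)
  · obtain ⟨T', hT', u', hu', h0⟩ := (h x hx T hT).2 i hi (Ψ hx T hT i φ)
    obtain ⟨u, hu⟩ := (exists_conj hreg F θ hx hT hT').2 u'
    refine ⟨T', hT', u, (injective_conj hreg F θ hx hT hT' hu).2 hu', (bij hx T' hT' i).1 ?_⟩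
    rw [← nat hx hT hT' hu i φ, h0, Ψ0]
  · obtain ⟨φ, rfl⟩ := (bij hx T hT i).2 w
    rw [(h x hx T hT).1 i hi φ, Ψ0]
  · obtain ⟨φ, rfl⟩ := (bij hx T hT i).2 w
    obtain ⟨T', hT', u, hu, h0⟩ := (h x hx T hT).2 i hi φ
    obtain ⟨u', hu'⟩ := (exists_conj hreg F θ hx hT hT').1 u
    refine ⟨T', hT', u', (injective_conj hreg F θ hx hT hT' hu').1 hu, ?_⟩
    rw [nat hx hT hT' hu' i φ, h0, Ψ0]

include θ in
/-- Coherent modules correspond to coherent modules. -/
theorem good_obj_iff (P : PP X) : Good (F.obj P).obj ↔ Good P.obj :=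
  (goodP_iff hreg _).symm.trans ((goodP_obj_iff hreg F θ P).trans (goodP_iff hreg P))

end Groth.L07.PtAuto
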